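import Mathlib
import Cfsg.Agent.Helper96.StC.Main
import Cfsg.Agent.Helper29.StCM
import Cfsg.Agent.Helper84.PSpNorm
import Cfsg.Agent.Helper9.Sp4P.Defs2

/-!
# `Sp_{2m}(q)` from `Sp₄(q)` and a group of permutations of the `m` hyperbolic pairs (S2292): definitions

CORE: a family of homomorphisms `A i j : Sp₄(K) →* D` (`i ≠ j` in `Fin m`; think of `A i j` as the
`Sp₄` on the hyperbolic pairs `i, j`, the pair `i` in the first place) satisfying `Fam` gives a family
`XC A o p q t` (`p ≠ q` in `Fin m ⊕ Fin m`) satisfying helper96's Steinberg relations `SpRel` of type `C_m`.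
-/

set_option autoImplicit false

namespace Cfsg.Agent.Helper15.PSp

open Matrix Cfsg.Agent.Helper96.StC Cfsg.Agent.Helper96.StN Cfsg.Agent.Helper29.StCM
  Cfsg.Agent.Helper96.StemSLTwo Cfsg.Agent.Helper96.StPres Cfsg.Agent.Helper9.Sp4P

universe u v

/-- `Sp₄(K)` -/
abbrev Sp4 (K : Type u) [Field K] := Matrix.symplecticGroup (Fin 2) K

/-- the underlying index of an element of `ι ⊕ ι` -/
def idx {ι : Type*} : ι ⊕ ι → ι := Sum.elim id id

@[simp] theorem idx_inl {ι : Type*} (i : ι) : idx (Sum.inl i : ι ⊕ ι) = i := rfl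
@[simp] theorem idx_inr {ι : Type*} (i : ι) : idx (Sum.inr i : ι ⊕ ι) = i := rfl

/-- the element on the same side as `p` with index `k` -/
def sd {ι κ : Type*} (p : ι ⊕ ι) (k : κ) : κ ⊕ κ := Sum.map (fun _ => k) (fun _ => k) p

@[simp] theorem sd_inl {ι κ : Type*} (i : ι) (k : κ) : sd (Sum.inl i : ι ⊕ ι) k = Sum.inl k := rfl
@[simp] theorem sd_inr {ι κ : Type*} (i : ι) (k : κ) : sd (Sum.inr i : ι ⊕ ι) k = Sum.inr k := rfl

/-- the embedding of index sets attached to the ordered pair `(i, j)` -/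
def em {m : ℕ} (i j : Fin m) : Fin 2 ⊕ Fin 2 → Fin m ⊕ Fin m := Sum.map ![i, j] ![i, j]

/-- the swap of the two hyperbolic pairs of `Sp₄` on indices -/
def sw : Fin 2 ⊕ Fin 2 → Fin 2 ⊕ Fin 2 := Sum.map (Equiv.swap 0 1) (Equiv.swap 0 1)

/-- change the side at the index `k` -/
def fl {ι : Type*} [DecidableEq ι] (k : ι) (p : ι ⊕ ι) : ι ⊕ ι := if idx p = k then bar p else p

theorem fl_fl {ι : Type*} [DecidableEq ι] (k : ι) (p : ι ⊕ ι) : fl k (fl k p) = p := by
  unfold fl
  by_cases h : idx p = k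
  · have h' : idx (bar p) = k := by
      cases p <;> simpa [bar] using h
    rw [if_pos h, if_pos h', bar_bar]
  · rw [if_neg h, if_neg h]

/-- `fl k` as a permutation -/
def flPerm {ι : Type*} [DecidableEq ι] (k : ι) : Equiv.Perm (ι ⊕ ι) :=
  ⟨fl k, fl k, fl_fl k, fl_fl k⟩

@[simp] theorem flPerm_apply {ι : Type*} [DecidableEq ι] (k : ι) (p : ι ⊕ ι) :
    flPerm k p = fl k p := rfl

/-- the coefficients of the long Weyl element at the index `k`: `e_k ↦ -f_k`, `f_k ↦ e_k` -/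
def cfl (K : Type*) [Field K] {ι : Type*} [DecidableEq ι] (k : ι) (p : ι ⊕ ι) : K :=
  if p = Sum.inl k then -1 else 1

variable {K : Type u} [Field K] {D : Type v} [Group D] {m : ℕ}

variable (K) in
/-- the long root `SL₂` of `Sp₄(K)` on the hyperbolic pair `0` -/
noncomputable def i0 : SL2 K →* Sp4 K := Cfsg.Agent.Helper84.PSp.sl2 (0 : Fin 2)

variable (K) in
/-- the matrix of the permutation swapping the two hyperbolic pairs -/
def nSMat : Matrix (Fin 2 ⊕ Fin 2) (Fin 2 ⊕ Fin 2) K :=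
  Matrix.of fun p q => if q = sw p then 1 else 0

theorem nSMat_mem : nSMat K ∈ Matrix.symplecticGroup (Fin 2) K := by
  rw [SymplecticGroup.mem_iff]
  ext p q
  rcases p with p | p <;> rcases q with q | q <;> fin_cases p <;> fin_cases q <;>
    simp [nSMat, sw, Matrix.mul_apply, Matrix.J, Matrix.fromBlocks]

variable (K) in
/-- the permutation matrix swapping the two hyperbolic pairs, in `Sp₄(K)` -/
def nS : Sp4 K := ⟨nSMat K, nSMat_mem⟩

theorem coe_nS : ((nS K : Sp4 K) : Matrix (Fin 2 ⊕ Fin 2) (Fin 2 ⊕ Fin 2) K) = nSMat K := rfl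

/-- the conditions on a family `A i j : Sp₄(K) →* D` -/
structure Fam (A : Fin m → Fin m → (Sp4 K →* D)) : Prop where
  swap : ∀ i j, i ≠ j → ∀ g, A j i g = A i j (nS K * g * (nS K)⁻¹)
  long : ∀ i j j', i ≠ j → i ≠ j' → ∀ g : SL2 K, A i j (i0 K g) = A i j' (i0 K g)
  dj : ∀ i j k l, i ≠ j → k ≠ l → k ≠ i → k ≠ j → l ≠ i → l ≠ j → ∀ g g',
    Commute (A i j g) (A k l g')
  djl : ∀ i j k l, i ≠ j → k ≠ l → k ≠ i → k ≠ j → ∀ (g : Sp4 K) (g' : SL2 K),
    Commute (A i j g) (A k l (i0 K g'))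
  typeA : StRel (fun i j t => A i j (spT (Sum.inl 0) (Sum.inl 1) t))

/-- the root elements: `o i ≠ i` is an auxiliary second index for the long roots -/
def XC (A : Fin m → Fin m → (Sp4 K →* D)) (o : Fin m → Fin m) (p q : Fin m ⊕ Fin m) (t : K) : D :=
  if idx p = idx q then A (idx p) (o (idx p)) (spT (sd p 0) (bar (sd p 0)) t)
  else A (idx p) (idx q) (spT (sd p 0) (sd q 1) t)

/-- the long Weyl element at the index `k` -/
noncomputable def Nk (A : Fin m → Fin m → (Sp4 K →* D)) (o : Fin m → Fin m) (k : Fin m) : D :=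
  A k (o k) (i0 K (WU (1 : K)))

end Cfsg.Agent.Helper15.PSp
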