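import Mathlib
import Cfsg.Agent.Helper15.PSp.Defs
import Cfsg.Agent.Helper1.SLNP.Defs

/-!
# `Sp_{2n}(q)`, `n = m + 4`, from `Sp₄(q)` and `A_n` (S2292): the gluing relations

`a4 : Sp₄(K) →* D` (the `Sp₄` on the hyperbolic pairs `0, 1`), `ρ : A_n →* D` (in the model
`π ↦ diag(P_π, P_π)`).  Notation of helper1's `SLNP.Defs`: `Alt m = A_{m+4}`, points `p0 .. p3`,
`c012 = (0 1 2)`, `sg = (0 1)(2 3)`, `pi0 = (0 2)(1 3)`, `pick m i j` (an even permutation with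
`0 ↦ i`, `1 ↦ j`).
-/

set_option autoImplicit false

namespace Cfsg.Agent.Helper15.PSp

open Matrix Cfsg.Agent.Helper96.StC Cfsg.Agent.Helper96.StN Cfsg.Agent.Helper29.StCM
  Cfsg.Agent.Helper96.StemSLTwo Cfsg.Agent.Helper96.StPres Cfsg.Agent.Helper9.Sp4P
  Cfsg.Agent.Helper1.SL3P Cfsg.Agent.Helper1.SLNP

universe u v

variable {K : Type u} [Field K] {D : Type v} [Group D] {m : ℕ}

theorem p2_ne_p1 (m : ℕ) : p2 m ≠ p1 m := (p1_ne_p2 m).symm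

/-- `τ = (1 2 3)`: `1 ↦ 2 ↦ 3 ↦ 1`; the stabiliser of `0` is generated by the stabiliser of `0, 1`
and `τ` -/
def tau (m : ℕ) : Alt m :=
  ⟨Equiv.swap (p1 m) (p2 m) * Equiv.swap (p2 m) (p3 m), swap_mul_swap_mem (p1_ne_p2 m) (p2_ne_p3 m)⟩

variable (K) in
/-- the short root `SL₂` of `Sp₄(K)`: `g ↦ diag(g, g⁻ᵀ)` (helper9's `eS`) -/
noncomputable abbrev eS4 : SL2 K →* Sp4 K := Cfsg.Agent.Helper9.Sp4P.eS K

/-- the gluing relations for all elements -/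
structure Glue4 (a4 : Sp4 K →* D) (ρ : Alt m →* D) : Prop where
  st : ∀ π : Alt m, π.1 (p0 m) = p0 m → π.1 (p1 m) = p1 m → ∀ g : Sp4 K, Commute (ρ π) (a4 g)
  fl : ∀ g : Sp4 K, ρ (sg m) * a4 g * (ρ (sg m))⁻¹ = a4 (nS K * g * (nS K)⁻¹)
  lg : ∀ π : Alt m, π.1 (p0 m) = p0 m → ∀ g : SL2 K, Commute (ρ π) (a4 (i0 K g))
  dj : ∀ g g' : Sp4 K, Commute (a4 g) (ρ (pi0 m) * a4 g' * (ρ (pi0 m))⁻¹)

/-- the gluing relations on generators: `l1, l2` generate `Sp₄(K)`, `s1, s2` generate the stabiliser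
of `0, 1` in `A_n`, `z` generates `Kˣ` -/
structure GlueGen4 (a4 : Sp4 K →* D) (ρ : Alt m →* D) (z : Kˣ) (l1 l2 : Sp4 K) (s1 s2 : Alt m) :
    Prop where
  s1l1 : Commute (ρ s1) (a4 l1)
  s1l2 : Commute (ρ s1) (a4 l2)
  s2l1 : Commute (ρ s2) (a4 l1)
  s2l2 : Commute (ρ s2) (a4 l2)
  fl1 : ρ (sg m) * a4 l1 * (ρ (sg m))⁻¹ = a4 (nS K * l1 * (nS K)⁻¹)
  fl2 : ρ (sg m) * a4 l2 * (ρ (sg m))⁻¹ = a4 (nS K * l2 * (nS K)⁻¹)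
  tu : Commute (ρ (tau m)) (a4 (i0 K (uMat K 1)))
  th : Commute (ρ (tau m)) (a4 (i0 K (dMat (z : K) z.ne_zero)))
  tw : Commute (ρ (tau m)) (a4 (i0 K (WU (1 : K))))
  d11 : Commute (a4 l1) (ρ (pi0 m) * a4 l1 * (ρ (pi0 m))⁻¹)
  d12 : Commute (a4 l1) (ρ (pi0 m) * a4 l2 * (ρ (pi0 m))⁻¹)
  d21 : Commute (a4 l2) (ρ (pi0 m) * a4 l1 * (ρ (pi0 m))⁻¹)
  d22 : Commute (a4 l2) (ρ (pi0 m) * a4 l2 * (ρ (pi0 m))⁻¹)

/-- the two cross relations between the short root `SL₂` `a = a4 ∘ eS4` and the 3-cycle `c = ρ (0 1 2)`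
that are imposed (helper1's `CrossB.cw` and `CrossB.mul`) -/
structure Cross2 (a : SL2 K →* D) (c : D) : Prop where
  cw : we a * c⁻¹ * we a * c⁻¹ = 1
  mul : xe a 1 * (c * xe a 1 * c⁻¹) * (xe a 1)⁻¹ * (c * xe a 1 * c⁻¹)⁻¹ =
    c * c * ye a 1 * (c * c)⁻¹

/-- the family of homomorphisms attached to `a4`, `ρ`: `AF a4 ρ i j g = ρ π * a4 g * (ρ π)⁻¹` for the
chosen even `π` with `0 ↦ i`, `1 ↦ j` -/
noncomputable def AF (a4 : Sp4 K →* D) (ρ : Alt m →* D) (i j : Fin (m + 4)) : Sp4 K →* D :=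
  (MulAut.conj (ρ (pick m i j))).toMonoidHom.comp a4

theorem AF_apply (a4 : Sp4 K →* D) (ρ : Alt m →* D) (i j : Fin (m + 4)) (g : Sp4 K) :
    AF a4 ρ i j g = ρ (pick m i j) * a4 g * (ρ (pick m i j))⁻¹ := rfl

/-- the thirteen gluing relator words; `L1, L2` words for `l1, l2`, `N1, N2` for `n l1 n⁻¹`,
`n l2 n⁻¹`, `U, H, W` for the generators of the long root `SL₂` at the pair `0`, `S1, S2, T, S, P` for
`s1, s2, τ, σ, π₀` -/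
def wordsG4 {G : Type*} [Group G] (L1 L2 N1 N2 U H W S1 S2 T S P : G) : List G :=
  [S1 * L1 * S1⁻¹ * L1⁻¹, S1 * L2 * S1⁻¹ * L2⁻¹, S2 * L1 * S2⁻¹ * L1⁻¹, S2 * L2 * S2⁻¹ * L2⁻¹,
   S * L1 * S⁻¹ * N1⁻¹, S * L2 * S⁻¹ * N2⁻¹,
   T * U * T⁻¹ * U⁻¹, T * H * T⁻¹ * H⁻¹, T * W * T⁻¹ * W⁻¹,
   L1 * (P * L1 * P⁻¹) * L1⁻¹ * (P * L1 * P⁻¹)⁻¹, L1 * (P * L2 * P⁻¹) * L1⁻¹ * (P * L2 * P⁻¹)⁻¹,
   L2 * (P * L1 * P⁻¹) * L2⁻¹ * (P * L1 * P⁻¹)⁻¹, L2 * (P * L2 * P⁻¹) * L2⁻¹ * (P * L2 * P⁻¹)⁻¹]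

theorem length_wordsG4 {G : Type*} [Group G] (L1 L2 N1 N2 U H W S1 S2 T S P : G) :
    (wordsG4 L1 L2 N1 N2 U H W S1 S2 T S P).length = 13 := rfl

theorem map_wordsG4 {G H' : Type*} [Group G] [Group H'] (φ : G →* H')
    (L1 L2 N1 N2 U H W S1 S2 T S P : G) :
    (wordsG4 L1 L2 N1 N2 U H W S1 S2 T S P).map φ =
      wordsG4 (φ L1) (φ L2) (φ N1) (φ N2) (φ U) (φ H) (φ W) (φ S1) (φ S2) (φ T) (φ S) (φ P) := by
  simp only [wordsG4, List.map_cons, List.map_nil, map_mul, map_inv]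

/-- the two cross relator words in `u = x(1)`, `w = w(1)` of the short root `SL₂` and `c` -/
def wordsC2 {G : Type*} [Group G] (u w c : G) : List G :=
  [w * c⁻¹ * w * c⁻¹,
   u * (c * u * c⁻¹) * u⁻¹ * (c * u * c⁻¹)⁻¹ * (c * c * (w * u⁻¹ * w⁻¹) * (c * c)⁻¹)⁻¹]

theorem length_wordsC2 {G : Type*} [Group G] (u w c : G) : (wordsC2 u w c).length = 2 := rfl

theorem map_wordsC2 {G H' : Type*} [Group G] [Group H'] (φ : G →* H') (u w c : G) :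
    (wordsC2 u w c).map φ = wordsC2 (φ u) (φ w) (φ c) := by
  simp only [wordsC2, List.map_cons, List.map_nil, map_mul, map_inv]

end Cfsg.Agent.Helper15.PSp
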