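import Mathlib
import Cfsg.Agent.Helper15.PSp.Defs

/-!
# S2292 CORE piece (EM) -- see `tools/helper15_psp/README.md` and board WANTED of helper15.
-/

set_option autoImplicit false

namespace Cfsg.Agent.Helper15.PSp

open Matrix Cfsg.Agent.Helper96.StC Cfsg.Agent.Helper96.StN Cfsg.Agent.Helper29.StCM
  Cfsg.Agent.Helper96.StemSLTwo Cfsg.Agent.Helper96.StPres Cfsg.Agent.Helper9.Sp4P

universe u v

variable {K : Type u} [Field K] {D : Type v} [Group D] {m : ℕ}

/-- (EM) -/
theorem em_bar (i j : Fin m) (p0 : Fin 2 ⊕ Fin 2) : em i j (bar p0) = bar (em i j p0) := by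
  cases p0 <;> rfl

theorem EM_vec_injective {i j : Fin m} (hij : i ≠ j) :
    Function.Injective (![i, j] : Fin 2 → Fin m) := by
  intro a b hab
  fin_cases a <;> fin_cases b <;> simp_all

theorem em_injective {i j : Fin m} (hij : i ≠ j) : Function.Injective (em i j) := by
  unfold em
  exact Sum.map_injective.mpr ⟨EM_vec_injective hij, EM_vec_injective hij⟩

theorem em_surj {i j : Fin m} (p : Fin m ⊕ Fin m) (hp : idx p = i ∨ idx p = j) :
    ∃ p0, em i j p0 = p := by
  rcases p with a | a
  · rcases hp with h | h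
    · exact ⟨Sum.inl 0, by simp only [idx_inl] at h; subst h; rfl⟩
    · exact ⟨Sum.inl 1, by simp only [idx_inl] at h; subst h; rfl⟩
  · rcases hp with h | h
    · exact ⟨Sum.inr 0, by simp only [idx_inr] at h; subst h; rfl⟩
    · exact ⟨Sum.inr 1, by simp only [idx_inr] at h; subst h; rfl⟩

theorem idx_em (i j : Fin m) (p0 : Fin 2 ⊕ Fin 2) : idx (em i j p0) = ![i, j] (idx p0) := by
  cases p0 <;> rfl

/-- (EPS) -/
theorem eps_em (i j : Fin m) (p0 q0 : Fin 2 ⊕ Fin 2) :
    eps K (em i j p0) (em i j q0) = eps K p0 q0 := by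
  cases p0 <;> cases q0 <;> rfl

/-- (IDX) two elements have the same index iff they are equal or opposite -/
theorem idx_eq_iff {ι : Type*} (p q : ι ⊕ ι) : idx p = idx q ↔ q = p ∨ q = bar p := by
  rcases p with a | a <;> rcases q with b | b <;> simp [eq_comm]

theorem idx_bar {ι : Type*} (p : ι ⊕ ι) : idx (bar p) = idx p := by
  cases p <;> rfl

end Cfsg.Agent.Helper15.PSp
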