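import Mathlib
import Cfsg.Agent.Helper15.PSp.Defs

/-!
# S2292 CORE piece (NS) -- see `tools/helper15_psp/README.md` and board WANTED of helper15.
-/

set_option autoImplicit false

namespace Cfsg.Agent.Helper15.PSp

open Matrix Cfsg.Agent.Helper96.StC Cfsg.Agent.Helper96.StN Cfsg.Agent.Helper29.StCM
  Cfsg.Agent.Helper96.StemSLTwo Cfsg.Agent.Helper96.StPres Cfsg.Agent.Helper9.Sp4P

universe u v

variable {K : Type u} [Field K] {D : Type v} [Group D] {m : ℕ}

theorem NS_sw_sw (p : Fin 2 ⊕ Fin 2) : sw (sw p) = p := by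
  rcases p with p | p <;> fin_cases p <;> rfl

theorem NS_sw_injective : Function.Injective sw := fun a b h => by
  rw [← NS_sw_sw a, h, NS_sw_sw]

theorem NS_eq_sw_iff (a b : Fin 2 ⊕ Fin 2) : a = sw b ↔ sw a = b := by
  constructor
  · rintro rfl
    exact NS_sw_sw b
  · rintro rfl
    exact (NS_sw_sw a).symm

theorem NS_bar_sw (p : Fin 2 ⊕ Fin 2) : bar (sw p) = sw (bar p) := by
  rcases p with p | p <;> rfl

theorem NS_eps (p q : Fin 2 ⊕ Fin 2) : eps K (sw p) (sw q) = eps K p q := by
  rcases p with p | p <;> rcases q with q | q <;> rfl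

/-- conjugation by the permutation matrix of `sw` -/
theorem NS_conj (M : Matrix (Fin 2 ⊕ Fin 2) (Fin 2 ⊕ Fin 2) K) (p q : Fin 2 ⊕ Fin 2) :
    (nSMat K * M * nSMat K) p q = M (sw p) (sw q) := by
  rw [Matrix.mul_apply, Finset.sum_eq_single (sw q)]
  · have h1 : nSMat K (sw q) q = 1 := by
      simp only [nSMat, Matrix.of_apply]
      rw [if_pos (NS_sw_sw q).symm]
    rw [h1, mul_one, Matrix.mul_apply, Finset.sum_eq_single (sw p)]
    · have h2 : nSMat K p (sw p) = 1 := by
        simp [nSMat]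
      rw [h2, one_mul]
    · intro r _ hr
      have h2 : nSMat K p r = 0 := by
        simp only [nSMat, Matrix.of_apply]
        rw [if_neg hr]
      rw [h2, zero_mul]
    · intro h
      exact absurd (Finset.mem_univ _) h
  · intro r _ hr
    have h1 : nSMat K r q = 0 := by
      simp only [nSMat, Matrix.of_apply]
      rw [if_neg]
      intro h
      apply hr
      rw [h, NS_sw_sw]
    rw [h1, mul_zero]
  · intro h
    exact absurd (Finset.mem_univ _) h

theorem NS_sq : nS K * nS K = 1 := by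
  apply Subtype.ext
  show nSMat K * nSMat K = 1
  ext p q
  have := NS_conj (K := K) 1 p q
  rw [Matrix.mul_one] at this
  rw [this, Matrix.one_apply, Matrix.one_apply]
  simp only [NS_sw_injective.eq_iff]

/-- (NS) conjugation by the swap of the two pairs -/
theorem nS_conj_spT (p0 q0 : Fin 2 ⊕ Fin 2) (h : p0 ≠ q0) (t : K) :
    nS K * spT p0 q0 t * (nS K)⁻¹ = spT (sw p0) (sw q0) t := by
  have hinv : (nS K)⁻¹ = nS K := inv_eq_of_mul_eq_one_right NS_sq
  rw [hinv]
  apply Subtype.ext
  show nSMat K * (spT p0 q0 t).1 * nSMat K = (spT (sw p0) (sw q0) t).1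
  rw [spT_coe h, spT_coe (NS_sw_injective.ne h)]
  ext p q
  rw [NS_conj]
  unfold spM
  by_cases hq : q0 = bar p0
  · have hq' : sw q0 = bar (sw p0) := by rw [hq, NS_bar_sw]
    rw [if_pos hq, if_pos hq']
    simp only [Matrix.add_apply, Matrix.one_apply, Matrix.single_apply, NS_sw_injective.eq_iff,
      NS_eq_sw_iff]
  · have hq' : ¬ sw q0 = bar (sw p0) := by
      intro hcon
      apply hq
      rw [NS_bar_sw] at hcon
      exact NS_sw_injective hcon
    rw [if_neg hq, if_neg hq']
    simp only [Matrix.add_apply, Matrix.sub_apply, Matrix.one_apply, Matrix.single_apply,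
      NS_sw_injective.eq_iff, NS_eq_sw_iff, NS_bar_sw, NS_eps]

end Cfsg.Agent.Helper15.PSp
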