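import Mathlib
import Cfsg.Agent.Helper15.PSp.Defs

/-!
# S2292 CORE piece (I0U) -- see `tools/helper15_psp/README.md` and board WANTED of helper15.
-/

set_option autoImplicit false

namespace Cfsg.Agent.Helper15.PSp

open Matrix Cfsg.Agent.Helper96.StC Cfsg.Agent.Helper96.StN Cfsg.Agent.Helper29.StCM
  Cfsg.Agent.Helper96.StemSLTwo Cfsg.Agent.Helper96.StPres Cfsg.Agent.Helper9.Sp4P

universe u v

variable {K : Type u} [Field K] {D : Type v} [Group D] {m : ℕ}

/-- (I0U) the long root elements at the pair `0` -/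
theorem i0_uMat (t : K) : i0 K (uMat K t) = spT (Sum.inl 0) (Sum.inr 0) t := by
  apply Subtype.ext
  have hne : (Sum.inl 0 : Fin 2 ⊕ Fin 2) ≠ Sum.inr 0 := by simp
  rw [spT_coe hne]
  unfold i0
  rw [Cfsg.Agent.Helper84.PSp.coe_sl2, uMat_coe]
  unfold spM
  rw [if_pos (by simp)]
  ext p q
  rcases p with p | p <;> rcases q with q | q <;> fin_cases p <;> fin_cases q <;>
    simp

theorem i0_lMat (t : K) : i0 K (lMat K t) = spT (Sum.inr 0) (Sum.inl 0) t := by
  apply Subtype.ext
  have hne : (Sum.inr 0 : Fin 2 ⊕ Fin 2) ≠ Sum.inl 0 := by simp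
  rw [spT_coe hne]
  unfold i0
  rw [Cfsg.Agent.Helper84.PSp.coe_sl2, lMat_coe]
  unfold spM
  rw [if_pos (by simp)]
  ext p q
  rcases p with p | p <;> rcases q with q | q <;> fin_cases p <;> fin_cases q <;>
    simp

end Cfsg.Agent.Helper15.PSp
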