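import Mathlib
import Cfsg.Agent.Helper15.PSp.Defs
import Cfsg.Agent.Helper15.PSp.P_EM
import Cfsg.Agent.Helper15.PSp.P_NS
import Cfsg.Agent.Helper15.PSp.P_I0U

/-!
# S2292 CORE piece (KEY) -- see `tools/helper15_psp/README.md` and board WANTED of helper15.
-/

set_option autoImplicit false

namespace Cfsg.Agent.Helper15.PSp

open Matrix Cfsg.Agent.Helper96.StC Cfsg.Agent.Helper96.StN Cfsg.Agent.Helper29.StCM
  Cfsg.Agent.Helper96.StemSLTwo Cfsg.Agent.Helper96.StPres Cfsg.Agent.Helper9.Sp4P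

universe u v

variable {K : Type u} [Field K] {D : Type v} [Group D] {m : ℕ}

/-! ### the piece -/

theorem KEY_sw_inl0 : sw (Sum.inl 0) = Sum.inl 1 := by simp [sw]
theorem KEY_sw_inl1 : sw (Sum.inl 1) = Sum.inl 0 := by simp [sw]
theorem KEY_sw_inr0 : sw (Sum.inr 0) = Sum.inr 1 := by simp [sw]
theorem KEY_sw_inr1 : sw (Sum.inr 1) = Sum.inr 0 := by simp [sw]

/-- distinct indices, first index first -/
theorem KEY_ne_fst (A : Fin m → Fin m → (Sp4 K →* D)) (o : Fin m → Fin m) {i j : Fin m}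
    (hij : i ≠ j) (p0 q0 : Fin 2 ⊕ Fin 2) (hp : idx p0 = 0) (hq : idx q0 = 1) (t : K) :
    XC A o (em i j p0) (em i j q0) t = A i j (spT p0 q0 t) := by
  rcases p0 with a | a <;> rcases q0 with b | b <;>
    simp only [idx_inl, idx_inr] at hp hq <;> subst hp <;> subst hq
  all_goals
    unfold XC
    rw [if_neg (by simpa [idx_em] using hij)]
    rfl

/-- distinct indices, second index first -/
theorem KEY_ne_snd {A : Fin m → Fin m → (Sp4 K →* D)} (hA : Fam A) (o : Fin m → Fin m)
    {i j : Fin m} (hij : i ≠ j) (p0 q0 : Fin 2 ⊕ Fin 2) (hp : idx p0 = 1) (hq : idx q0 = 0)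
    (t : K) : XC A o (em i j p0) (em i j q0) t = A i j (spT p0 q0 t) := by
  rcases p0 with a | a <;> rcases q0 with b | b <;>
    simp only [idx_inl, idx_inr] at hp hq <;> subst hp <;> subst hq
  all_goals
    unfold XC
    rw [if_neg (by simpa [idx_em] using hij.symm)]
  · show A j i (spT (Sum.inl 0) (Sum.inl 1) t) = _
    rw [hA.swap i j hij, nS_conj_spT _ _ (by simp), KEY_sw_inl0, KEY_sw_inl1]
  · show A j i (spT (Sum.inl 0) (Sum.inr 1) t) = _
    rw [hA.swap i j hij, nS_conj_spT _ _ (by simp), KEY_sw_inl0, KEY_sw_inr1]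
  · show A j i (spT (Sum.inr 0) (Sum.inl 1) t) = _
    rw [hA.swap i j hij, nS_conj_spT _ _ (by simp), KEY_sw_inr0, KEY_sw_inl1]
  · show A j i (spT (Sum.inr 0) (Sum.inr 1) t) = _
    rw [hA.swap i j hij, nS_conj_spT _ _ (by simp), KEY_sw_inr0, KEY_sw_inr1]

/-- (KEY) on the indices `i, j` the family `XC` is the image of the root elements of `Sp₄(K)` -/
theorem XC_em {A : Fin m → Fin m → (Sp4 K →* D)} (hA : Fam A) (o : Fin m → Fin m)
    (ho : ∀ i, o i ≠ i) {i j : Fin m} (hij : i ≠ j) (p0 q0 : Fin 2 ⊕ Fin 2) (h : p0 ≠ q0) (t : K) :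
    XC A o (em i j p0) (em i j q0) t = A i j (spT p0 q0 t) := by
  have h2 : ∀ a : Fin 2, a = 0 ∨ a = 1 := by decide
  rcases h2 (idx p0) with hp | hp <;> rcases h2 (idx q0) with hq | hq
  · -- both at the index `0`: long root at `i`
    have hq0 : q0 = bar p0 := by
      rcases (idx_eq_iff p0 q0).mp (hp.trans hq.symm) with h' | h'
      · exact absurd h'.symm h
      · exact h'
    subst hq0
    rcases p0 with a | a <;> simp only [idx_inl, idx_inr] at hp <;> subst hp
    · unfold XC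
      rw [if_pos (by simp [idx_em])]
      show A i (o i) (spT (Sum.inl 0) (Sum.inr 0) t) = A i j (spT (Sum.inl 0) (Sum.inr 0) t)
      rw [← i0_uMat, hA.long i (o i) j (ho i).symm hij]
    · unfold XC
      rw [if_pos (by simp [idx_em])]
      show A i (o i) (spT (Sum.inr 0) (Sum.inl 0) t) = A i j (spT (Sum.inr 0) (Sum.inl 0) t)
      rw [← i0_lMat, hA.long i (o i) j (ho i).symm hij]
  · exact KEY_ne_fst A o hij p0 q0 hp hq t
  · exact KEY_ne_snd hA o hij p0 q0 hp hq t
  · -- both at the index `1`: long root at `j`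
    have hq0 : q0 = bar p0 := by
      rcases (idx_eq_iff p0 q0).mp (hp.trans hq.symm) with h' | h'
      · exact absurd h'.symm h
      · exact h'
    subst hq0
    rcases p0 with a | a <;> simp only [idx_inl, idx_inr] at hp <;> subst hp
    · unfold XC
      rw [if_pos (by simp [idx_em])]
      show A j (o j) (spT (Sum.inl 0) (Sum.inr 0) t) = A i j (spT (Sum.inl 1) (Sum.inr 1) t)
      rw [← i0_uMat, hA.long j (o j) i (ho j).symm hij.symm, i0_uMat, hA.swap i j hij,
        nS_conj_spT _ _ (by simp), KEY_sw_inl0, KEY_sw_inr0]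
    · unfold XC
      rw [if_pos (by simp [idx_em])]
      show A j (o j) (spT (Sum.inr 0) (Sum.inl 0) t) = A i j (spT (Sum.inr 1) (Sum.inl 1) t)
      rw [← i0_lMat, hA.long j (o j) i (ho j).symm hij.symm, i0_lMat, hA.swap i j hij,
        nS_conj_spT _ _ (by simp), KEY_sw_inr0, KEY_sw_inl0]

end Cfsg.Agent.Helper15.PSp
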