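import Mathlib
import Cfsg.Agent.Helper15.PSp.Defs

/-!
# S2292 CORE piece (MAP) -- see `tools/helper15_psp/README.md` and board WANTED of helper15.
-/

set_option autoImplicit false

namespace Cfsg.Agent.Helper15.PSp

open Matrix Cfsg.Agent.Helper96.StC Cfsg.Agent.Helper96.StN Cfsg.Agent.Helper29.StCM
  Cfsg.Agent.Helper96.StemSLTwo Cfsg.Agent.Helper96.StPres Cfsg.Agent.Helper9.Sp4P

universe u v

variable {K : Type u} [Field K] {D : Type v} [Group D] {m : ℕ}

/-- (MAP) the Steinberg relations are preserved by homomorphisms -/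
theorem spRel_map {ι : Type*} {E : Type*} [Group E] {X : ι ⊕ ι → ι ⊕ ι → K → D} (hX : SpRel X)
    (φ : D →* E) : SpRel (fun p q t => φ (X p q t)) := by
  refine ⟨?_, ?_, ?_, ?_, ?_, ?_⟩
  · intro p q hpq hq t
    exact congrArg φ (hX.sym p q hpq hq t)
  · intro p q hpq t u
    show φ (X p q (t + u)) = φ (X p q t) * φ (X p q u)
    rw [← map_mul, hX.add p q hpq t u]
  · intro p q r s h1 h2 h3 h4 h5 h6 t u
    show φ (X p q t) * φ (X r s u) = φ (X r s u) * φ (X p q t)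
    rw [← map_mul, ← map_mul, hX.comm p q r s h1 h2 h3 h4 h5 h6 t u]
  · intro p q s h1 h2 h3 h4 h5 h6 t u
    show φ (X p q t) * φ (X q s u) * (φ (X p q t))⁻¹ * (φ (X q s u))⁻¹ = φ (X p s (t * u))
    rw [← map_inv, ← map_inv, ← map_mul, ← map_mul, ← map_mul, hX.mul p q s h1 h2 h3 h4 h5 h6 t u]
  · intro p q h1 h2 t u
    show φ (X p q t) * φ (X q (bar p) u) * (φ (X p q t))⁻¹ * (φ (X q (bar p) u))⁻¹ =
      φ (X p (bar p) (2 * t * u))
    rw [← map_inv, ← map_inv, ← map_mul, ← map_mul, ← map_mul, hX.r5 p q h1 h2 t u]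
  · intro p q h1 h2 t u
    show φ (X p (bar p) t) * φ (X (bar p) q u) * (φ (X p (bar p) t))⁻¹ * (φ (X (bar p) q u))⁻¹ =
      φ (X p q (t * u)) * φ (X (bar q) q (eps K p q * t * u ^ 2))
    rw [← map_inv, ← map_inv, ← map_mul, ← map_mul, ← map_mul, ← map_mul, hX.r6 p q h1 h2 t u]

end Cfsg.Agent.Helper15.PSp
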