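import Mathlib
import Cfsg.Agent.Helper15.PSp.Defs
import Cfsg.Agent.Helper15.PSp.P_EM
import Cfsg.Agent.Helper15.PSp.P_MAP
import Cfsg.Agent.Helper15.PSp.P_KEY

/-!
# S2292 CORE piece (R2S) -- see `tools/helper15_psp/README.md` and board WANTED of helper15.
-/

set_option autoImplicit false

namespace Cfsg.Agent.Helper15.PSp

open Matrix Cfsg.Agent.Helper96.StC Cfsg.Agent.Helper96.StN Cfsg.Agent.Helper29.StCM
  Cfsg.Agent.Helper96.StemSLTwo Cfsg.Agent.Helper96.StPres Cfsg.Agent.Helper9.Sp4P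

universe u v

variable {K : Type u} [Field K] {D : Type v} [Group D] {m : ℕ}

/-- the relations inside two indices (the proof of `spRel_two` of `CoreSkel.lean.txt`, under an
`R2S_` name so that this file does not wait for `Two.lean`) -/
theorem R2S_spRel_two {A : Fin m → Fin m → (Sp4 K →* D)} (hA : Fam A) (o : Fin m → Fin m)
    (ho : ∀ i, o i ≠ i) {i j : Fin m} (hij : i ≠ j) :
    SpRel (fun (p0 q0 : Fin 2 ⊕ Fin 2) (t : K) => XC A o (em i j p0) (em i j q0) t) := by
  have h := spRel_map (spT_spRel (K := K) (m := 2)) (A i j)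
  refine ⟨?_, ?_, ?_, ?_, ?_, ?_⟩
  · intro p q hpq hq t
    have hb : bar q ≠ bar p := fun e => hpq (bar_injective e).symm
    rw [XC_em hA o ho hij p q hpq, XC_em hA o ho hij _ _ hb]
    exact h.sym p q hpq hq t
  · intro p q hpq t u
    rw [XC_em hA o ho hij p q hpq, XC_em hA o ho hij p q hpq, XC_em hA o ho hij p q hpq]
    exact h.add p q hpq t u
  · intro p q r s hpq hrs h1 h2 h3 h4 t u
    rw [XC_em hA o ho hij p q hpq, XC_em hA o ho hij r s hrs]
    exact h.comm p q r s hpq hrs h1 h2 h3 h4 t u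
  · intro p q s hpq hqs hps h1 h2 h3 t u
    rw [XC_em hA o ho hij p q hpq, XC_em hA o ho hij q s hqs, XC_em hA o ho hij p s hps]
    exact h.mul p q s hpq hqs hps h1 h2 h3 t u
  · intro p q hpq h1 t u
    have hqb : q ≠ bar p := fun e => h1 (by rw [e, bar_bar])
    rw [XC_em hA o ho hij p q hpq, XC_em hA o ho hij q (bar p) hqb,
      XC_em hA o ho hij p (bar p) (bar_ne p).symm]
    exact h.r5 p q hpq h1 t u
  · intro p q hpq h1 t u
    have hbq : bar p ≠ q := fun e => h1 (by rw [← e, bar_bar])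
    rw [XC_em hA o ho hij p (bar p) (bar_ne p).symm, XC_em hA o ho hij (bar p) q hbq,
      XC_em hA o ho hij p q hpq, XC_em hA o ho hij (bar q) q (bar_ne q)]
    exact h.r6 p q hpq h1 t u

/-! ### the piece -/

/-- (R2S) -/
theorem XC_sym {A : Fin m → Fin m → (Sp4 K →* D)} (hA : Fam A) (o : Fin m → Fin m)
    (ho : ∀ i, o i ≠ i) (p q : Fin m ⊕ Fin m) (hpq : p ≠ q) (hq : q ≠ bar p) (t : K) :
    XC A o p q t = XC A o (bar q) (bar p) (-(eps K p q * t)) := by
  obtain ⟨i, hi⟩ : ∃ i, idx p = i := ⟨_, rfl⟩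
  obtain ⟨j, hj⟩ : ∃ j, idx q = j := ⟨_, rfl⟩
  have hij : i ≠ j := by
    intro h
    have h1 : idx p = idx q := by rw [hi, hj, h]
    rcases (idx_eq_iff p q).mp h1 with h2 | h2
    · exact hpq h2.symm
    · exact hq h2
  obtain ⟨p0, rfl⟩ := em_surj (i := i) (j := j) p (Or.inl hi)
  obtain ⟨q0, rfl⟩ := em_surj (i := i) (j := j) q (Or.inr hj)
  have h0 : p0 ≠ q0 := fun h => hpq (by rw [h])
  have h1 : q0 ≠ bar p0 := fun h => hq (by rw [h, em_bar])
  have := (R2S_spRel_two hA o ho hij).sym p0 q0 h0 h1 t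
  simp only [em_bar] at this
  rw [eps_em]
  exact this

end Cfsg.Agent.Helper15.PSp
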