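import Mathlib
import Cfsg.Agent.Helper15.PSp.Defs
import Cfsg.Agent.Helper15.PSp.P_EM
import Cfsg.Agent.Helper15.PSp.P_R2S

/-!
# S2292 CORE piece (C2) -- see `tools/helper15_psp/README.md` and board WANTED of helper15.
(helper87; `spRel_two` is taken from helper49's landed copy `R2S_spRel_two` in `P_R2S`, so this file does
not wait for `Two.lean`.)
-/

set_option autoImplicit false

namespace Cfsg.Agent.Helper15.PSp

open Matrix Cfsg.Agent.Helper96.StC Cfsg.Agent.Helper96.StN Cfsg.Agent.Helper29.StCM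
  Cfsg.Agent.Helper96.StemSLTwo Cfsg.Agent.Helper96.StPres Cfsg.Agent.Helper9.Sp4P

universe u v

variable {K : Type u} [Field K] {D : Type v} [Group D] {m : ℕ}

/-! ### the piece -/

/-- (C2) the commutation relations inside two indices -/
theorem XC_comm_two {A : Fin m → Fin m → (Sp4 K →* D)} (hA : Fam A) (o : Fin m → Fin m)
    (ho : ∀ i, o i ≠ i) {i j : Fin m} (hij : i ≠ j) (p q r s : Fin m ⊕ Fin m)
    (hp : idx p = i ∨ idx p = j) (hq : idx q = i ∨ idx q = j) (hr : idx r = i ∨ idx r = j)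
    (hs : idx s = i ∨ idx s = j)
    (hpq : p ≠ q) (hrs : r ≠ s) (h1 : q ≠ r) (h2 : q ≠ bar s) (h3 : p ≠ bar r) (h4 : p ≠ s)
    (t u : K) : XC A o p q t * XC A o r s u = XC A o r s u * XC A o p q t := by
  obtain ⟨p0, rfl⟩ := em_surj p hp
  obtain ⟨q0, rfl⟩ := em_surj q hq
  obtain ⟨r0, rfl⟩ := em_surj r hr
  obtain ⟨s0, rfl⟩ := em_surj s hs
  have key := (R2S_spRel_two (K := K) hA o ho hij).comm p0 q0 r0 s0
    (fun h => hpq (by rw [h])) (fun h => hrs (by rw [h])) (fun h => h1 (by rw [h]))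
    (fun h => h2 (by rw [h, em_bar])) (fun h => h3 (by rw [h, em_bar])) (fun h => h4 (by rw [h])) t u
  exact key

end Cfsg.Agent.Helper15.PSp
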