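import Mathlib
import Cfsg.Agent.Helper15.PSp.Defs

/-!
# S2292 CORE piece (BASE) -- see `tools/helper15_psp/README.md` and board WANTED of helper15.
-/

set_option autoImplicit false

namespace Cfsg.Agent.Helper15.PSp

open Matrix Cfsg.Agent.Helper96.StC Cfsg.Agent.Helper96.StN Cfsg.Agent.Helper29.StCM
  Cfsg.Agent.Helper96.StemSLTwo Cfsg.Agent.Helper96.StPres Cfsg.Agent.Helper9.Sp4P

universe u v

variable {K : Type u} [Field K] {D : Type v} [Group D] {m : ℕ}

/-- (BASE) on the left hand sides the family is the type `A` family -/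
theorem XC_inl (A : Fin m → Fin m → (Sp4 K →* D)) (o : Fin m → Fin m) {i j : Fin m} (hij : i ≠ j)
    (t : K) : XC A o (Sum.inl i) (Sum.inl j) t = A i j (spT (Sum.inl 0) (Sum.inl 1) t) := by
  unfold XC
  have h : ¬ idx (Sum.inl i : Fin m ⊕ Fin m) = idx (Sum.inl j : Fin m ⊕ Fin m) := hij
  rw [if_neg h]
  rfl

end Cfsg.Agent.Helper15.PSp
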