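import Mathlib
import Cfsg.Agent.Helper15.PSp.Defs

/-!
# S2292 CORE piece (COMF) -- see `tools/helper15_psp/README.md` and board WANTED of helper15.
-/

set_option autoImplicit false

namespace Cfsg.Agent.Helper15.PSp

open Matrix Cfsg.Agent.Helper96.StC Cfsg.Agent.Helper96.StN Cfsg.Agent.Helper29.StCM
  Cfsg.Agent.Helper96.StemSLTwo Cfsg.Agent.Helper96.StPres Cfsg.Agent.Helper9.Sp4P

universe u v

variable {K : Type u} [Field K] {D : Type v} [Group D] {m : ℕ}

/-- conjugates of commuting elements commute -/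
theorem COMF_conj {g x y : D} (h : Commute x y) : Commute (g * x * g⁻¹) (g * y * g⁻¹) := by
  show g * x * g⁻¹ * (g * y * g⁻¹) = g * y * g⁻¹ * (g * x * g⁻¹)
  calc g * x * g⁻¹ * (g * y * g⁻¹) = g * (x * y) * g⁻¹ := by group
    _ = g * (y * x) * g⁻¹ := by rw [h.eq]
    _ = g * y * g⁻¹ * (g * x * g⁻¹) := by group

/-- every root element with flipped indices is a conjugate by a monomial element -/
theorem COMF_exists {X : Fin m ⊕ Fin m → Fin m ⊕ Fin m → K → D} {g : D} {k : Fin m}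
    (hg : IsMono X g (flPerm k) (cfl K k)) (p q : Fin m ⊕ Fin m) (hpq : p ≠ q) (t : K) :
    ∃ t' : K, X (fl k p) (fl k q) t = g * X p q t' * g⁻¹ := by
  obtain ⟨h0, hc⟩ := hg
  have ha : cfl K k p * (cfl K k q)⁻¹ ≠ 0 := mul_ne_zero (h0 p) (inv_ne_zero (h0 q))
  refine ⟨(cfl K k p * (cfl K k q)⁻¹)⁻¹ * t, ?_⟩
  rw [hc p q hpq, flPerm_apply, flPerm_apply, ← mul_assoc, mul_inv_cancel₀ ha, one_mul]

/-- (COMF) commutation is stable under changing the side at one index -/
theorem comm_flip {X : Fin m ⊕ Fin m → Fin m ⊕ Fin m → K → D} {g : D} {k : Fin m}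
    (hg : IsMono X g (flPerm k) (cfl K k)) (p q r s : Fin m ⊕ Fin m) (hpq : p ≠ q) (hrs : r ≠ s)
    (h : ∀ t u : K, Commute (X p q t) (X r s u)) :
    ∀ t u : K, Commute (X (fl k p) (fl k q) t) (X (fl k r) (fl k s) u) := by
  intro t u
  obtain ⟨t', ht⟩ := COMF_exists hg p q hpq t
  obtain ⟨u', hu⟩ := COMF_exists hg r s hrs u
  rw [ht, hu]
  exact COMF_conj (h t' u')

end Cfsg.Agent.Helper15.PSp
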