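import Mathlib
import Cfsg.Agent.Helper15.PSp.Defs
import Cfsg.Agent.Helper15.PSp.P_I0U

/-!
# S2292 CORE piece (FLA) -- see `tools/helper15_psp/README.md` and board WANTED of helper15.
-/

set_option autoImplicit false

namespace Cfsg.Agent.Helper15.PSp

open Matrix Cfsg.Agent.Helper96.StC Cfsg.Agent.Helper96.StN Cfsg.Agent.Helper29.StCM
  Cfsg.Agent.Helper96.StemSLTwo Cfsg.Agent.Helper96.StPres Cfsg.Agent.Helper9.Sp4P

universe u v

variable {K : Type u} [Field K] {D : Type v} [Group D] {m : ℕ}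

/-- a long root element of `Sp₄` at the pair `0` lies in the long root `SL₂` -/
theorem FLA_long_eq_i0 (p : Fin m ⊕ Fin m) (t : K) :
    ∃ g : SL2 K, spT (sd p (0 : Fin 2)) (bar (sd p (0 : Fin 2))) t = i0 K g := by
  rcases p with a | a
  · exact ⟨uMat K t, (i0_uMat t).symm⟩
  · exact ⟨lMat K t, (i0_lMat t).symm⟩

/-! ### the piece -/

/-- (FLA) the long Weyl element at `k` commutes with the root elements not involving `k` -/
theorem Nk_commute (hm : 3 ≤ m) {A : Fin m → Fin m → (Sp4 K →* D)} (hA : Fam A) (o : Fin m → Fin m)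
    (ho : ∀ i, o i ≠ i) (k : Fin m) (p q : Fin m ⊕ Fin m) (hpq : p ≠ q) (hp : idx p ≠ k)
    (hq : idx q ≠ k) (u : K) : Commute (Nk A o k) (XC A o p q u) := by
  unfold Nk XC
  by_cases h : idx p = idx q
  · rw [if_pos h]
    obtain ⟨g, hg⟩ := FLA_long_eq_i0 (K := K) p u
    obtain ⟨j', hj'i, hj'k⟩ : ∃ j' : Fin m, j' ≠ idx p ∧ j' ≠ k :=
      Fin.exists_ne_and_ne_of_two_lt (idx p) k (by omega)
    rw [hg, hA.long (idx p) (o (idx p)) j' (ho (idx p)).symm hj'i.symm g]
    exact (hA.djl (idx p) j' k (o k) hj'i.symm (ho k).symm (Ne.symm hp) hj'k.symm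
      (i0 K g) (WU (1 : K))).symm
  · rw [if_neg h]
    exact (hA.djl (idx p) (idx q) k (o k) h (ho k).symm (Ne.symm hp) (Ne.symm hq) _
      (WU (1 : K))).symm

end Cfsg.Agent.Helper15.PSp
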