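import Mathlib
import Cfsg.Agent.Helper15.PSp.Defs

/-!
# S2292 CORE piece (I0W) -- see `tools/helper15_psp/README.md` and board WANTED of helper15.
(proved by helper34)
-/

set_option autoImplicit false

namespace Cfsg.Agent.Helper15.PSp

open Matrix Cfsg.Agent.Helper96.StC Cfsg.Agent.Helper96.StN Cfsg.Agent.Helper29.StCM
  Cfsg.Agent.Helper96.StemSLTwo Cfsg.Agent.Helper96.StPres Cfsg.Agent.Helper9.Sp4P

universe u v

variable {K : Type u} [Field K] {D : Type v} [Group D] {m : ℕ}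

/-- the matrix of the long Weyl element at the pair `0` -/
theorem I0W_coe : ((i0 K (WU (1 : K)) : Sp4 K) : Matrix (Fin 2 ⊕ Fin 2) (Fin 2 ⊕ Fin 2) K) =
    fromBlocks (diagonal ![0, 1]) (diagonal ![1, 0]) (diagonal ![-1, 0]) (diagonal ![0, 1]) := by
  unfold i0
  rw [Cfsg.Agent.Helper84.PSp.coe_sl2, WU_coe 1 one_ne_zero]
  congr 1 <;> ext i j <;> fin_cases i <;> fin_cases j <;> simp [diagonal]

theorem I0W_fl_ne {p0 q0 : Fin 2 ⊕ Fin 2} (h : p0 ≠ q0) : fl (0 : Fin 2) p0 ≠ fl 0 q0 := by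
  intro e
  apply h
  have := congrArg (fl (0 : Fin 2)) e
  rwa [fl_fl, fl_fl] at this

set_option maxHeartbeats 1600000 in
/-- (I0W) the long Weyl element at the pair `0` acts monomially -/
theorem i0_WU_conj (p0 q0 : Fin 2 ⊕ Fin 2) (h : p0 ≠ q0) (t : K) :
    i0 K (WU (1 : K)) * spT p0 q0 t * (i0 K (WU (1 : K)))⁻¹ =
      spT (fl 0 p0) (fl 0 q0) (cfl K 0 p0 * (cfl K 0 q0)⁻¹ * t) := by
  rw [mul_inv_eq_iff_eq_mul]
  apply Subtype.ext
  rw [Submonoid.coe_mul, Submonoid.coe_mul, spT_coe h, spT_coe (I0W_fl_ne h), I0W_coe]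
  rcases p0 with a | a <;> rcases q0 with b | b <;> fin_cases a <;> fin_cases b <;>
    first
    | exact absurd rfl h
    | (ext i j
       rcases i with i | i <;> rcases j with j | j <;> fin_cases i <;> fin_cases j <;>
         simp [spM, bar, eps, fl, cfl, idx, Matrix.mul_apply, Fintype.sum_sum_type,
           Fin.sum_univ_two, Matrix.single, Matrix.one_apply, Matrix.sub_apply, Matrix.add_apply])

end Cfsg.Agent.Helper15.PSp
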