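import Mathlib
import Cfsg.Agent.Helper15.PSp.Defs
import Cfsg.Agent.Helper15.PSp.P_EM
import Cfsg.Agent.Helper15.PSp.P_I0W
import Cfsg.Agent.Helper15.PSp.P_KEY

/-!
# S2292 CORE piece (FLB) -- see `tools/helper15_psp/README.md` and board WANTED of helper15.
(proved by helper34)
-/

set_option autoImplicit false

namespace Cfsg.Agent.Helper15.PSp

open Matrix Cfsg.Agent.Helper96.StC Cfsg.Agent.Helper96.StN Cfsg.Agent.Helper29.StCM
  Cfsg.Agent.Helper96.StemSLTwo Cfsg.Agent.Helper96.StPres Cfsg.Agent.Helper9.Sp4P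

universe u v

variable {K : Type u} [Field K] {D : Type v} [Group D] {m : ℕ}

/-- `em k j` intertwines `fl 0` and `fl k` -/
theorem FLB_em_fl {k j : Fin m} (hkj : k ≠ j) (p0 : Fin 2 ⊕ Fin 2) :
    em k j (fl 0 p0) = fl k (em k j p0) := by
  have hjk : j ≠ k := fun e => hkj e.symm
  rcases p0 with a | a <;> fin_cases a <;> simp [em, fl, idx, bar, hjk]

/-- `em k j` is compatible with the coefficients `cfl` -/
theorem FLB_cfl_em {k j : Fin m} (hkj : k ≠ j) (p0 : Fin 2 ⊕ Fin 2) :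
    cfl K k (em k j p0) = cfl K 0 p0 := by
  have hjk : j ≠ k := fun e => hkj e.symm
  rcases p0 with a | a <;> fin_cases a <;> simp [em, cfl, hjk]

/-- a second index `j ≠ k` such that `p`, `q` both live on the indices `k`, `j` -/
theorem FLB_exists_em (o : Fin m → Fin m) (ho : ∀ i, o i ≠ i) (k : Fin m) (p q : Fin m ⊕ Fin m)
    (hpq : p ≠ q) (hk : idx p = k ∨ idx q = k) :
    ∃ j : Fin m, k ≠ j ∧ ∃ p0 q0 : Fin 2 ⊕ Fin 2, p0 ≠ q0 ∧ em k j p0 = p ∧ em k j q0 = q := by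
  have key : ∀ j : Fin m, k ≠ j → (idx p = k ∨ idx p = j) → (idx q = k ∨ idx q = j) →
      ∃ j : Fin m, k ≠ j ∧ ∃ p0 q0 : Fin 2 ⊕ Fin 2, p0 ≠ q0 ∧ em k j p0 = p ∧ em k j q0 = q := by
    intro j hkj h1 h2
    obtain ⟨p0, hp0⟩ := em_surj p h1
    obtain ⟨q0, hq0⟩ := em_surj q h2
    refine ⟨j, hkj, p0, q0, ?_, hp0, hq0⟩
    intro e
    apply hpq
    rw [← hp0, ← hq0, e]
  by_cases hp : idx p = k
  · by_cases hq : idx q = k
    · exact key (o k) (ho k).symm (Or.inl hp) (Or.inl hq)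
    · exact key (idx q) (fun e => hq e.symm) (Or.inl hp) (Or.inr rfl)
  · have hq : idx q = k := hk.resolve_left hp
    exact key (idx p) (fun e => hp e.symm) (Or.inr rfl) (Or.inl hq)

/-- (FLB) the action of the long Weyl element at `k` on the root elements involving `k` -/
theorem Nk_conj (hm : 3 ≤ m) {A : Fin m → Fin m → (Sp4 K →* D)} (hA : Fam A) (o : Fin m → Fin m)
    (ho : ∀ i, o i ≠ i) (k : Fin m) (p q : Fin m ⊕ Fin m) (hpq : p ≠ q)
    (hk : idx p = k ∨ idx q = k) (u : K) :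
    Nk A o k * XC A o p q u * (Nk A o k)⁻¹ =
      XC A o (fl k p) (fl k q) (cfl K k p * (cfl K k q)⁻¹ * u) := by
  obtain ⟨j, hkj, p0, q0, h0, rfl, rfl⟩ := FLB_exists_em o ho k p q hpq hk
  have hN : Nk A o k = A k j (i0 K (WU (1 : K))) := by
    unfold Nk
    exact hA.long k (o k) j (ho k).symm hkj _
  rw [hN, XC_em hA o ho hkj p0 q0 h0, ← map_inv, ← map_mul, ← map_mul, i0_WU_conj p0 q0 h0,
    ← FLB_em_fl hkj, ← FLB_em_fl hkj, FLB_cfl_em hkj, FLB_cfl_em hkj,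
    XC_em hA o ho hkj _ _ (I0W_fl_ne h0)]

end Cfsg.Agent.Helper15.PSp
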