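import Mathlib
import Cfsg.Agent.Helper15.PSp.Defs
import Cfsg.Agent.Helper15.PSp.P_FLA
import Cfsg.Agent.Helper15.PSp.P_FLB

/-!
# S2292 CORE piece (FL) -- see `tools/helper15_psp/README.md` and board WANTED of helper15.
-/

set_option autoImplicit false

namespace Cfsg.Agent.Helper15.PSp

open Matrix Cfsg.Agent.Helper96.StC Cfsg.Agent.Helper96.StN Cfsg.Agent.Helper29.StCM
  Cfsg.Agent.Helper96.StemSLTwo Cfsg.Agent.Helper96.StPres Cfsg.Agent.Helper9.Sp4P

universe u v

variable {K : Type u} [Field K] {D : Type v} [Group D] {m : ℕ}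

/-! ### the piece -/

/-- (FL) the long Weyl element at `k` is monomial -/
theorem Nk_isMono (hm : 3 ≤ m) {A : Fin m → Fin m → (Sp4 K →* D)} (hA : Fam A) (o : Fin m → Fin m)
    (ho : ∀ i, o i ≠ i) (k : Fin m) : IsMono (XC A o) (Nk A o k) (flPerm k) (cfl K k) := by
  refine ⟨fun p => ?_, fun p q hpq u => ?_⟩
  · unfold cfl
    split_ifs
    · exact neg_ne_zero.2 one_ne_zero
    · exact one_ne_zero
  · by_cases hk : idx p = k ∨ idx q = k
    · rw [flPerm_apply, flPerm_apply]
      exact Nk_conj hm hA o ho k p q hpq hk u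
    · push Not at hk
      obtain ⟨hp, hq⟩ := hk
      have hc := Nk_commute hm hA o ho k p q hpq hp hq u
      have e1 : Nk A o k * XC A o p q u * (Nk A o k)⁻¹ = XC A o p q u := by
        rw [hc.eq, mul_inv_cancel_right]
      have hflp : fl k p = p := by unfold fl; rw [if_neg hp]
      have hflq : fl k q = q := by unfold fl; rw [if_neg hq]
      have hcp : cfl K k p = 1 := by
        unfold cfl
        rw [if_neg]
        rintro rfl
        exact hp rfl
      have hcq : cfl K k q = 1 := by
        unfold cfl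
        rw [if_neg]
        rintro rfl
        exact hq rfl
      rw [e1, flPerm_apply, flPerm_apply, hflp, hflq, hcp, hcq, inv_one, mul_one, one_mul]

end Cfsg.Agent.Helper15.PSp
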