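import Mathlib
import Cfsg.Agent.Helper15.PSp.Defs
import Cfsg.Agent.Helper15.PSp.P_FL
import Cfsg.Agent.Helper15.PSp.P_BASE
import Cfsg.Agent.Helper15.PSp.P_COMF

/-!
# S2292 CORE piece (C3A) -- see `tools/helper15_psp/README.md` and board WANTED of helper15.
-/

set_option autoImplicit false

namespace Cfsg.Agent.Helper15.PSp

open Matrix Cfsg.Agent.Helper96.StC Cfsg.Agent.Helper96.StN Cfsg.Agent.Helper29.StCM
  Cfsg.Agent.Helper96.StemSLTwo Cfsg.Agent.Helper96.StPres Cfsg.Agent.Helper9.Sp4P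

universe u v

variable {K : Type u} [Field K] {D : Type v} [Group D] {m : ℕ}

/-! ### the piece -/

theorem C3A_fl_self (k : Fin m) : fl k (Sum.inl k : Fin m ⊕ Fin m) = Sum.inr k := by
  unfold fl
  rw [if_pos (idx_inl k), bar_inl]

theorem C3A_fl_ne (k : Fin m) (x : Fin m ⊕ Fin m) (h : idx x ≠ k) : fl k x = x := by
  unfold fl
  rw [if_neg h]

/-- (C3A) three indices, the first entries agree -/
theorem XC_comm_three_left (hm : 3 ≤ m) {A : Fin m → Fin m → (Sp4 K →* D)} (hA : Fam A)
    (o : Fin m → Fin m) (ho : ∀ i, o i ≠ i) (p q s : Fin m ⊕ Fin m) (hpq : idx p ≠ idx q)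
    (hps : idx p ≠ idx s) (hqs : idx q ≠ idx s) (t u : K) :
    Commute (XC A o p q t) (XC A o p s u) := by
  -- all on the left hand side: type `A`
  have hbase : ∀ a b c : Fin m, a ≠ b → a ≠ c → b ≠ c → ∀ t u : K,
      Commute (XC A o (Sum.inl a) (Sum.inl b) t) (XC A o (Sum.inl a) (Sum.inl c) u) := by
    intro a b c hab hac hbc t u
    rw [XC_inl A o hab, XC_inl A o hac]
    exact hA.typeA.comm a b a c hab hac hab.symm hac t u
  -- flip the third entry
  have h3 : ∀ (a b : Fin m) (s : Fin m ⊕ Fin m), a ≠ b → a ≠ idx s → b ≠ idx s → ∀ t u : K,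
      Commute (XC A o (Sum.inl a) (Sum.inl b) t) (XC A o (Sum.inl a) s u) := by
    intro a b s hab has hbs t u
    rcases s with c | c
    · exact hbase a b c hab has hbs t u
    · have has' : a ≠ c := has
      have hbs' : b ≠ c := hbs
      have h := comm_flip (Nk_isMono hm hA o ho c) (Sum.inl a) (Sum.inl b) (Sum.inl a) (Sum.inl c)
        (fun h => hab (Sum.inl.inj h)) (fun h => has' (Sum.inl.inj h)) (hbase a b c hab has' hbs') t u
      rwa [C3A_fl_ne c (Sum.inl a) has', C3A_fl_ne c (Sum.inl b) hbs', C3A_fl_self c] at h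
  -- flip the second entry
  have h2 : ∀ (a : Fin m) (q s : Fin m ⊕ Fin m), a ≠ idx q → a ≠ idx s → idx q ≠ idx s → ∀ t u : K,
      Commute (XC A o (Sum.inl a) q t) (XC A o (Sum.inl a) s u) := by
    intro a q s haq has hqs t u
    rcases q with b | b
    · exact h3 a b s haq has hqs t u
    · have hab : a ≠ b := haq
      have hbs : b ≠ idx s := hqs
      have h := comm_flip (Nk_isMono hm hA o ho b) (Sum.inl a) (Sum.inl b) (Sum.inl a) s
        (fun h => hab (Sum.inl.inj h)) (fun h => has (by rw [← h]; rfl))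
        (h3 a b s hab has hbs) t u
      rwa [C3A_fl_ne b (Sum.inl a) hab, C3A_fl_self b, C3A_fl_ne b s hbs.symm] at h
  -- flip the first entry
  rcases p with a | a
  · exact h2 a q s hpq hps hqs t u
  · have haq : a ≠ idx q := hpq
    have has : a ≠ idx s := hps
    have h := comm_flip (Nk_isMono hm hA o ho a) (Sum.inl a) q (Sum.inl a) s
      (fun h => haq (by rw [← h]; rfl)) (fun h => has (by rw [← h]; rfl))
      (h2 a q s haq has hqs) t u
    rwa [C3A_fl_self a, C3A_fl_ne a q haq.symm, C3A_fl_ne a s has.symm] at h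

end Cfsg.Agent.Helper15.PSp
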