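import Mathlib
import Cfsg.Agent.Helper15.PSp.Defs
import Cfsg.Agent.Helper15.PSp.P_FL
import Cfsg.Agent.Helper15.PSp.P_BASE
import Cfsg.Agent.Helper15.PSp.P_COMF

/-!
# S2292 CORE piece (C3B) -- see `tools/helper15_psp/README.md` and board WANTED of helper15.
-/

set_option autoImplicit false

namespace Cfsg.Agent.Helper15.PSp

open Matrix Cfsg.Agent.Helper96.StC Cfsg.Agent.Helper96.StN Cfsg.Agent.Helper29.StCM
  Cfsg.Agent.Helper96.StemSLTwo Cfsg.Agent.Helper96.StPres Cfsg.Agent.Helper9.Sp4P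

universe u v

variable {K : Type u} [Field K] {D : Type v} [Group D] {m : ℕ}

/-! ### the piece -/

theorem C3B_fl_inl (k : Fin m) : fl k (Sum.inl k : Fin m ⊕ Fin m) = Sum.inr k := by
  simp [fl]

theorem C3B_fl_other {k : Fin m} (p : Fin m ⊕ Fin m) (h : idx p ≠ k) : fl k p = p := by
  unfold fl
  rw [if_neg h]

/-- (C3B) three indices, the second entries agree -/
theorem XC_comm_three_right (hm : 3 ≤ m) {A : Fin m → Fin m → (Sp4 K →* D)} (hA : Fam A)
    (o : Fin m → Fin m) (ho : ∀ i, o i ≠ i) (p r q : Fin m ⊕ Fin m) (hpq : idx p ≠ idx q)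
    (hrq : idx r ≠ idx q) (hpr : idx p ≠ idx r) (t u : K) :
    Commute (XC A o p q t) (XC A o r q u) := by
  -- one flip
  have step : ∀ (k : Fin m) (p q r : Fin m ⊕ Fin m), idx p ≠ idx q → idx r ≠ idx q →
      (∀ t u : K, Commute (XC A o p q t) (XC A o r q u)) →
      ∀ t u : K, Commute (XC A o (fl k p) (fl k q) t) (XC A o (fl k r) (fl k q) u) :=
    fun k p q r h1 h2 h => comm_flip (Nk_isMono hm hA o ho k) p q r q
      (fun e => h1 (congrArg idx e)) (fun e => h2 (congrArg idx e)) h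
  -- the all-`inl` case
  have base : ∀ i j l : Fin m, i ≠ l → j ≠ l → i ≠ j → ∀ t u : K,
      Commute (XC A o (Sum.inl i) (Sum.inl l) t) (XC A o (Sum.inl j) (Sum.inl l) u) := by
    intro i j l hil hjl hij t u
    rw [XC_inl A o hil, XC_inl A o hjl]
    exact hA.typeA.comm i l j l hil hjl (Ne.symm hjl) hil t u
  -- first entry arbitrary
  have st1 : ∀ (p : Fin m ⊕ Fin m) (j l : Fin m), idx p ≠ l → j ≠ l → idx p ≠ j → ∀ t u : K,
      Commute (XC A o p (Sum.inl l) t) (XC A o (Sum.inl j) (Sum.inl l) u) := by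
    intro p j l hpl hjl hpj
    rcases p with i | i
    · exact base i j l hpl hjl hpj
    · have h := step i (Sum.inl i) (Sum.inl l) (Sum.inl j) hpl hjl (base i j l hpl hjl hpj)
      rw [C3B_fl_inl, C3B_fl_other (k := i) (Sum.inl l) (Ne.symm hpl),
        C3B_fl_other (k := i) (Sum.inl j) (Ne.symm hpj)] at h
      exact h
  -- first and third entries arbitrary
  have st2 : ∀ (p r : Fin m ⊕ Fin m) (l : Fin m), idx p ≠ l → idx r ≠ l → idx p ≠ idx r →
      ∀ t u : K, Commute (XC A o p (Sum.inl l) t) (XC A o r (Sum.inl l) u) := by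
    intro p r l hpl hrl hpr
    rcases r with j | j
    · exact st1 p j l hpl hrl hpr
    · have h := step j p (Sum.inl l) (Sum.inl j) hpl hrl (st1 p j l hpl hrl hpr)
      rw [C3B_fl_inl, C3B_fl_other (k := j) p hpr,
        C3B_fl_other (k := j) (Sum.inl l) (Ne.symm hrl)] at h
      exact h
  -- all entries arbitrary
  rcases q with l | l
  · exact st2 p r l hpq hrq hpr t u
  · have h := step l p (Sum.inl l) r hpq hrq (st2 p r l hpq hrq hpr)
    rw [C3B_fl_inl, C3B_fl_other (k := l) p hpq, C3B_fl_other (k := l) r hrq] at h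
    exact h t u

end Cfsg.Agent.Helper15.PSp
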