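import Mathlib
import Cfsg.Agent.Helper15.PSp.Defs
import Cfsg.Agent.Helper15.PSp.P_EM
import Cfsg.Agent.Helper15.PSp.P_R2S
import Cfsg.Agent.Helper15.PSp.P_C3A
import Cfsg.Agent.Helper15.PSp.P_C3B

/-!
# S2292 CORE piece (C3) -- see `tools/helper15_psp/README.md` and board WANTED of helper15.
-/

set_option autoImplicit false

namespace Cfsg.Agent.Helper15.PSp

open Matrix Cfsg.Agent.Helper96.StC Cfsg.Agent.Helper96.StN Cfsg.Agent.Helper29.StCM
  Cfsg.Agent.Helper96.StemSLTwo Cfsg.Agent.Helper96.StPres Cfsg.Agent.Helper9.Sp4P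

universe u v

variable {K : Type u} [Field K] {D : Type v} [Group D] {m : ℕ}

/-! ### the piece -/

/-- (C3) three indices -/
theorem XC_comm_three (hm : 3 ≤ m) {A : Fin m → Fin m → (Sp4 K →* D)} (hA : Fam A)
    (o : Fin m → Fin m) (ho : ∀ i, o i ≠ i) (p q r s : Fin m ⊕ Fin m)
    (hpq : idx p ≠ idx q) (hrs : idx r ≠ idx s)
    (hsh : (idx p = idx r ∧ idx q ≠ idx s ∧ idx q ≠ idx r ∧ idx p ≠ idx s) ∨
      (idx q = idx s ∧ idx p ≠ idx r ∧ idx p ≠ idx s ∧ idx q ≠ idx r) ∨
      (idx p = idx s ∧ idx q ≠ idx r ∧ idx q ≠ idx s ∧ idx p ≠ idx r) ∨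
      (idx q = idx r ∧ idx p ≠ idx s ∧ idx p ≠ idx r ∧ idx q ≠ idx s))
    (h1 : q ≠ r) (h2 : q ≠ bar s) (h3 : p ≠ bar r) (h4 : p ≠ s) (t u : K) :
    XC A o p q t * XC A o r s u = XC A o r s u * XC A o p q t := by
  have hrs' : r ≠ s := fun h => hrs (by rw [h])
  have hsr : s ≠ bar r := by
    intro h
    apply hrs
    rw [h, idx_bar]
  rcases hsh with ⟨e, n1, n2, n3⟩ | ⟨e, n1, n2, n3⟩ | ⟨e, n1, n2, n3⟩ | ⟨e, n1, n2, n3⟩
  · -- `r = p`
    rcases (idx_eq_iff p r).mp e with h | h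
    · subst h
      exact (XC_comm_three_left hm hA o ho r q s hpq n3 n1 t u).eq
    · exfalso
      apply h3
      rw [h, bar_bar]
  · -- `s = q`
    rcases (idx_eq_iff q s).mp e with h | h
    · subst h
      exact (XC_comm_three_right hm hA o ho p r s hpq hrs n1 t u).eq
    · exfalso
      apply h2
      rw [h, bar_bar]
  · -- `s = bar p`
    rcases (idx_eq_iff p s).mp e with h | h
    · exact absurd h.symm h4
    · rw [XC_sym hA o ho r s hrs' hsr u, h, bar_bar]
      have k1 : idx p ≠ idx (bar r) := by rw [idx_bar]; exact n3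
      have k2 : idx q ≠ idx (bar r) := by rw [idx_bar]; exact n1
      exact (XC_comm_three_left hm hA o ho p q (bar r) hpq k1 k2 t _).eq
  · -- `r = bar q`
    rcases (idx_eq_iff q r).mp e with h | h
    · exact absurd h.symm h1
    · rw [XC_sym hA o ho r s hrs' hsr u]
      have e2 : bar r = q := by rw [h, bar_bar]
      rw [e2]
      have k1 : idx (bar s) ≠ idx q := by rw [idx_bar]; exact fun h' => n3 h'.symm
      have k2 : idx p ≠ idx (bar s) := by rw [idx_bar]; exact n1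
      exact (XC_comm_three_right hm hA o ho p (bar s) q hpq k1 k2 t _).eq

end Cfsg.Agent.Helper15.PSp
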