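import Mathlib
import Cfsg.Agent.Helper15.PSp.Defs
import Cfsg.Agent.Helper15.PSp.P_I0U

/-!
# S2292 CORE piece (C4) -- see `tools/helper15_psp/README.md` and board WANTED of helper15.
-/

set_option autoImplicit false

namespace Cfsg.Agent.Helper15.PSp

open Matrix Cfsg.Agent.Helper96.StC Cfsg.Agent.Helper96.StN Cfsg.Agent.Helper29.StCM
  Cfsg.Agent.Helper96.StemSLTwo Cfsg.Agent.Helper96.StPres Cfsg.Agent.Helper9.Sp4P

universe u v

variable {K : Type u} [Field K] {D : Type v} [Group D] {m : ℕ}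

/-- a long root element of `Sp₄` at the pair `0` lies in the long root `SL₂` -/
theorem C4_long_eq_i0 (p : Fin m ⊕ Fin m) (t : K) :
    ∃ g : SL2 K, spT (sd p (0 : Fin 2)) (bar (sd p (0 : Fin 2))) t = i0 K g := by
  rcases p with a | a
  · exact ⟨uMat K t, (i0_uMat t).symm⟩
  · exact ⟨lMat K t, (i0_lMat t).symm⟩

/-! ### the piece -/

/-- (C4) disjoint indices -/
theorem XC_comm_disj (hm : 3 ≤ m) {A : Fin m → Fin m → (Sp4 K →* D)} (hA : Fam A)
    (o : Fin m → Fin m) (ho : ∀ i, o i ≠ i) (p q r s : Fin m ⊕ Fin m) (hpq : p ≠ q) (hrs : r ≠ s)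
    (h13 : idx p ≠ idx r) (h14 : idx p ≠ idx s) (h23 : idx q ≠ idx r) (h24 : idx q ≠ idx s)
    (t u : K) : XC A o p q t * XC A o r s u = XC A o r s u * XC A o p q t := by
  show Commute (XC A o p q t) (XC A o r s u)
  unfold XC
  by_cases h : idx p = idx q
  · rw [if_pos h]
    obtain ⟨g, hg⟩ := C4_long_eq_i0 (K := K) p t
    by_cases h' : idx r = idx s
    · rw [if_pos h']
      obtain ⟨g', hg'⟩ := C4_long_eq_i0 (K := K) r u
      obtain ⟨j', hj'i, hj'k⟩ : ∃ j' : Fin m, j' ≠ idx p ∧ j' ≠ idx r :=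
        Fin.exists_ne_and_ne_of_two_lt (idx p) (idx r) (by omega)
      rw [hg, hg', hA.long (idx p) (o (idx p)) j' (ho (idx p)).symm hj'i.symm g]
      exact hA.djl (idx p) j' (idx r) (o (idx r)) hj'i.symm (ho (idx r)).symm (Ne.symm h13)
        hj'k.symm (i0 K g) g'
    · rw [if_neg h', hg]
      exact (hA.djl (idx r) (idx s) (idx p) (o (idx p)) h' (ho (idx p)).symm h13 h14 _ g).symm
  · rw [if_neg h]
    by_cases h' : idx r = idx s
    · rw [if_pos h']
      obtain ⟨g', hg'⟩ := C4_long_eq_i0 (K := K) r u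
      rw [hg']
      exact hA.djl (idx p) (idx q) (idx r) (o (idx r)) h (ho (idx r)).symm (Ne.symm h13)
        (Ne.symm h23) _ g'
    · rw [if_neg h']
      exact hA.dj (idx p) (idx q) (idx r) (idx s) h h' (Ne.symm h13) (Ne.symm h23) (Ne.symm h14)
        (Ne.symm h24) _ _

end Cfsg.Agent.Helper15.PSp
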