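import Mathlib
import Cfsg.Agent.Helper15.PSp.Defs
import Cfsg.Agent.Helper15.PSp.P_EM
import Cfsg.Agent.Helper15.PSp.P_C2
import Cfsg.Agent.Helper15.PSp.P_C3
import Cfsg.Agent.Helper15.PSp.P_C4

/-!
# S2292 CORE piece (COMM) -- see `tools/helper15_psp/README.md` and board WANTED of helper15.
-/

set_option autoImplicit false

namespace Cfsg.Agent.Helper15.PSp

open Matrix Cfsg.Agent.Helper96.StC Cfsg.Agent.Helper96.StN Cfsg.Agent.Helper29.StCM
  Cfsg.Agent.Helper96.StemSLTwo Cfsg.Agent.Helper96.StPres Cfsg.Agent.Helper9.Sp4P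

universe u v

variable {K : Type u} [Field K] {D : Type v} [Group D] {m : ℕ}

/-! ### the piece -/

/-- (COMM) -/
theorem XC_comm (hm : 3 ≤ m) {A : Fin m → Fin m → (Sp4 K →* D)} (hA : Fam A) (o : Fin m → Fin m)
    (ho : ∀ i, o i ≠ i) (p q r s : Fin m ⊕ Fin m) (hpq : p ≠ q) (hrs : r ≠ s) (h1 : q ≠ r)
    (h2 : q ≠ bar s) (h3 : p ≠ bar r) (h4 : p ≠ s) (t u : K) :
    XC A o p q t * XC A o r s u = XC A o r s u * XC A o p q t := by
  -- the case of at most two indices
  have two : ∀ i j : Fin m, i ≠ j → (idx p = i ∨ idx p = j) → (idx q = i ∨ idx q = j) →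
      (idx r = i ∨ idx r = j) → (idx s = i ∨ idx s = j) →
      XC A o p q t * XC A o r s u = XC A o r s u * XC A o p q t :=
    fun i j hij hp hq hr hs => XC_comm_two hA o ho hij p q r s hp hq hr hs hpq hrs h1 h2 h3 h4 t u
  by_cases hab : idx p = idx q
  · by_cases hc : idx r = idx p
    · by_cases hd : idx s = idx p
      · exact two (idx p) (o (idx p)) (ho _).symm (Or.inl rfl) (Or.inl hab.symm) (Or.inl hc) (Or.inl hd)
      · exact two (idx p) (idx s) (fun h => hd h.symm) (Or.inl rfl) (Or.inl hab.symm) (Or.inl hc) (Or.inr rfl)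
    · by_cases hd : idx s = idx p
      · exact two (idx p) (idx r) (fun h => hc h.symm) (Or.inl rfl) (Or.inl hab.symm) (Or.inr rfl) (Or.inl hd)
      · exact XC_comm_disj hm hA o ho p q r s hpq hrs (fun h => hc h.symm) (fun h => hd h.symm)
          (fun h => hc (h.symm.trans hab.symm)) (fun h => hd (h.symm.trans hab.symm)) t u
  · by_cases hcd : idx r = idx s
    · by_cases hc : idx r = idx p
      · exact two (idx p) (idx q) hab (Or.inl rfl) (Or.inr rfl) (Or.inl hc) (Or.inl (hcd.symm.trans hc))
      · by_cases hc' : idx r = idx q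
        · exact two (idx p) (idx q) hab (Or.inl rfl) (Or.inr rfl) (Or.inr hc') (Or.inr (hcd.symm.trans hc'))
        · exact XC_comm_disj hm hA o ho p q r s hpq hrs (fun h => hc h.symm)
            (fun h => hc (hcd.trans h.symm)) (fun h => hc' h.symm) (fun h => hc' (hcd.trans h.symm)) t u
    · by_cases h13 : idx p = idx r
      · by_cases h24 : idx q = idx s
        · exact two (idx p) (idx q) hab (Or.inl rfl) (Or.inr rfl) (Or.inl h13.symm) (Or.inr h24.symm)
        · exact XC_comm_three hm hA o ho p q r s hab hcd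
            (Or.inl ⟨h13, h24, fun h => hab (h13.trans h.symm), fun h => hcd (h13.symm.trans h)⟩) h1 h2 h3 h4 t u
      · by_cases h14 : idx p = idx s
        · by_cases h23 : idx q = idx r
          · exact two (idx p) (idx q) hab (Or.inl rfl) (Or.inr rfl) (Or.inr h23.symm) (Or.inl h14.symm)
          · exact XC_comm_three hm hA o ho p q r s hab hcd
              (Or.inr (Or.inr (Or.inl ⟨h14, h23, fun h => hab (h14.trans h.symm), h13⟩))) h1 h2 h3 h4 t u
        · by_cases h23 : idx q = idx r
          · exact XC_comm_three hm hA o ho p q r s hab hcd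
              (Or.inr (Or.inr (Or.inr ⟨h23, h14, h13, fun h => hcd (h23.symm.trans h)⟩))) h1 h2 h3 h4 t u
          · by_cases h24 : idx q = idx s
            · exact XC_comm_three hm hA o ho p q r s hab hcd
                (Or.inr (Or.inl ⟨h24, h13, h14, h23⟩)) h1 h2 h3 h4 t u
            · exact XC_comm_disj hm hA o ho p q r s hpq hrs h13 h14 h23 h24 t u

end Cfsg.Agent.Helper15.PSp
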