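import Mathlib
import Cfsg.Agent.Helper15.PSp.Defs

/-!
# S2292 CORE piece (MULF) -- see `tools/helper15_psp/README.md` and board WANTED of helper15.
-/

set_option autoImplicit false

namespace Cfsg.Agent.Helper15.PSp

open Matrix Cfsg.Agent.Helper96.StC Cfsg.Agent.Helper96.StN Cfsg.Agent.Helper29.StCM
  Cfsg.Agent.Helper96.StemSLTwo Cfsg.Agent.Helper96.StPres Cfsg.Agent.Helper9.Sp4P

universe u v

variable {K : Type u} [Field K] {D : Type v} [Group D] {m : ℕ}

/-- (MULF) the relation `mul` is stable under changing the side at one index -/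
theorem mul_flip {X : Fin m ⊕ Fin m → Fin m ⊕ Fin m → K → D} {g : D} {k : Fin m}
    (hg : IsMono X g (flPerm k) (cfl K k)) (p q s : Fin m ⊕ Fin m) (hpq : p ≠ q) (hqs : q ≠ s)
    (hps : p ≠ s)
    (h : ∀ t u : K, X p q t * X q s u * (X p q t)⁻¹ * (X q s u)⁻¹ = X p s (t * u)) :
    ∀ t u : K, X (fl k p) (fl k q) t * X (fl k q) (fl k s) u * (X (fl k p) (fl k q) t)⁻¹ *
      (X (fl k q) (fl k s) u)⁻¹ = X (fl k p) (fl k s) (t * u) := by
  intro t u
  obtain ⟨hc, hm⟩ := hg
  have ha := hc p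
  have hb := hc q
  have hd := hc s
  have e1 : X (fl k p) (fl k q) t =
      g * X p q ((cfl K k p)⁻¹ * cfl K k q * t) * g⁻¹ := by
    rw [hm p q hpq]
    simp only [flPerm_apply]
    congr 1
    field_simp
  have e2 : X (fl k q) (fl k s) u =
      g * X q s ((cfl K k q)⁻¹ * cfl K k s * u) * g⁻¹ := by
    rw [hm q s hqs]
    simp only [flPerm_apply]
    congr 1
    field_simp
  have e3 : X (fl k p) (fl k s) (t * u) =
      g * X p s (((cfl K k p)⁻¹ * cfl K k q * t) * ((cfl K k q)⁻¹ * cfl K k s * u)) * g⁻¹ := by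
    rw [hm p s hps]
    simp only [flPerm_apply]
    congr 1
    field_simp
  rw [e1, e2, e3, ← h]
  group

end Cfsg.Agent.Helper15.PSp
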