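import Mathlib
import Cfsg.Agent.Helper15.PSp.Defs
import Cfsg.Agent.Helper15.PSp.P_FL
import Cfsg.Agent.Helper15.PSp.P_BASE
import Cfsg.Agent.Helper15.PSp.P_MULF

/-!
# S2292 CORE piece (MUL) -- see `tools/helper15_psp/README.md` and board WANTED of helper15.
-/

set_option autoImplicit false

namespace Cfsg.Agent.Helper15.PSp

open Matrix Cfsg.Agent.Helper96.StC Cfsg.Agent.Helper96.StN Cfsg.Agent.Helper29.StCM
  Cfsg.Agent.Helper96.StemSLTwo Cfsg.Agent.Helper96.StPres Cfsg.Agent.Helper9.Sp4P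

universe u v

variable {K : Type u} [Field K] {D : Type v} [Group D] {m : ℕ}

/-! ### the piece -/

theorem MUL_fl_inl (k : Fin m) : fl k (Sum.inl k : Fin m ⊕ Fin m) = Sum.inr k := by
  simp [fl]

theorem MUL_fl_other {k : Fin m} (p : Fin m ⊕ Fin m) (h : idx p ≠ k) : fl k p = p := by
  unfold fl
  rw [if_neg h]

theorem MUL_idx_ne {p q : Fin m ⊕ Fin m} (hpq : p ≠ q) (h1 : p ≠ bar q) : idx p ≠ idx q := by
  intro h
  rcases p with i | i <;> rcases q with j | j <;> simp only [idx_inl, idx_inr] at h <;> subst h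
  · exact hpq rfl
  · exact h1 rfl
  · exact h1 rfl
  · exact hpq rfl

/-- (MUL) -/
theorem XC_mul (hm : 3 ≤ m) {A : Fin m → Fin m → (Sp4 K →* D)} (hA : Fam A) (o : Fin m → Fin m)
    (ho : ∀ i, o i ≠ i) (p q s : Fin m ⊕ Fin m) (hpq : p ≠ q) (hqs : q ≠ s) (hps : p ≠ s)
    (h1 : p ≠ bar q) (h2 : q ≠ bar s) (h3 : p ≠ bar s) (t u : K) :
    XC A o p q t * XC A o q s u * (XC A o p q t)⁻¹ * (XC A o q s u)⁻¹ = XC A o p s (t * u) := by
  -- one flip
  have step : ∀ (k : Fin m) (p q s : Fin m ⊕ Fin m), idx p ≠ idx q → idx q ≠ idx s → idx p ≠ idx s →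
      (∀ t u : K, XC A o p q t * XC A o q s u * (XC A o p q t)⁻¹ * (XC A o q s u)⁻¹ =
        XC A o p s (t * u)) →
      ∀ t u : K, XC A o (fl k p) (fl k q) t * XC A o (fl k q) (fl k s) u *
        (XC A o (fl k p) (fl k q) t)⁻¹ * (XC A o (fl k q) (fl k s) u)⁻¹ =
        XC A o (fl k p) (fl k s) (t * u) :=
    fun k p q s h1 h2 h3 h => mul_flip (Nk_isMono hm hA o ho k) p q s
      (fun e => h1 (congrArg idx e)) (fun e => h2 (congrArg idx e)) (fun e => h3 (congrArg idx e)) h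
  -- the all-`inl` case
  have base : ∀ i j l : Fin m, i ≠ j → j ≠ l → i ≠ l → ∀ t u : K,
      XC A o (Sum.inl i) (Sum.inl j) t * XC A o (Sum.inl j) (Sum.inl l) u *
        (XC A o (Sum.inl i) (Sum.inl j) t)⁻¹ * (XC A o (Sum.inl j) (Sum.inl l) u)⁻¹ =
      XC A o (Sum.inl i) (Sum.inl l) (t * u) := by
    intro i j l hij hjl hil t u
    rw [XC_inl A o hij, XC_inl A o hjl, XC_inl A o hil]
    exact hA.typeA.mul i j l hij hjl hil t u
  -- first entry arbitrary
  have st1 : ∀ (p : Fin m ⊕ Fin m) (j l : Fin m), idx p ≠ j → j ≠ l → idx p ≠ l → ∀ t u : K,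
      XC A o p (Sum.inl j) t * XC A o (Sum.inl j) (Sum.inl l) u *
        (XC A o p (Sum.inl j) t)⁻¹ * (XC A o (Sum.inl j) (Sum.inl l) u)⁻¹ =
      XC A o p (Sum.inl l) (t * u) := by
    intro p j l hpj hjl hpl
    rcases p with i | i
    · exact base i j l hpj hjl hpl
    · have h := step i (Sum.inl i) (Sum.inl j) (Sum.inl l) hpj hjl hpl (base i j l hpj hjl hpl)
      rw [MUL_fl_inl, MUL_fl_other (k := i) (Sum.inl j) (Ne.symm hpj),
        MUL_fl_other (k := i) (Sum.inl l) (Ne.symm hpl)] at h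
      exact h
  -- first two entries arbitrary
  have st2 : ∀ (p q : Fin m ⊕ Fin m) (l : Fin m), idx p ≠ idx q → idx q ≠ l → idx p ≠ l →
      ∀ t u : K, XC A o p q t * XC A o q (Sum.inl l) u *
        (XC A o p q t)⁻¹ * (XC A o q (Sum.inl l) u)⁻¹ = XC A o p (Sum.inl l) (t * u) := by
    intro p q l hpq hql hpl
    rcases q with j | j
    · exact st1 p j l hpq hql hpl
    · have h := step j p (Sum.inl j) (Sum.inl l) hpq hql hpl (st1 p j l hpq hql hpl)
      rw [MUL_fl_inl, MUL_fl_other (k := j) p hpq,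
        MUL_fl_other (k := j) (Sum.inl l) (Ne.symm hql)] at h
      exact h
  -- all entries arbitrary
  have st3 : ∀ (p q s : Fin m ⊕ Fin m), idx p ≠ idx q → idx q ≠ idx s → idx p ≠ idx s →
      ∀ t u : K, XC A o p q t * XC A o q s u *
        (XC A o p q t)⁻¹ * (XC A o q s u)⁻¹ = XC A o p s (t * u) := by
    intro p q s hpq hqs hps
    rcases s with l | l
    · exact st2 p q l hpq hqs hps
    · have h := step l p q (Sum.inl l) hpq hqs hps (st2 p q l hpq hqs hps)
      rw [MUL_fl_inl, MUL_fl_other (k := l) p hps, MUL_fl_other (k := l) q hqs] at h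
      exact h
  exact st3 p q s (MUL_idx_ne hpq h1) (MUL_idx_ne hqs h2) (MUL_idx_ne hps h3) t u

end Cfsg.Agent.Helper15.PSp
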