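import Mathlib
import Cfsg.Agent.Helper15.PSp.Defs
import Cfsg.Agent.Helper15.PSp.P_EM
import Cfsg.Agent.Helper15.PSp.P_R2S

/-!
# S2292 CORE piece (R25) -- see `tools/helper15_psp/README.md` and board WANTED of helper15.
-/

set_option autoImplicit false

namespace Cfsg.Agent.Helper15.PSp

open Matrix Cfsg.Agent.Helper96.StC Cfsg.Agent.Helper96.StN Cfsg.Agent.Helper29.StCM
  Cfsg.Agent.Helper96.StemSLTwo Cfsg.Agent.Helper96.StPres Cfsg.Agent.Helper9.Sp4P

universe u v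

variable {K : Type u} [Field K] {D : Type v} [Group D] {m : ℕ}

/-! ### the piece -/

/-- (R25) -/
theorem XC_r5 {A : Fin m → Fin m → (Sp4 K →* D)} (hA : Fam A) (o : Fin m → Fin m)
    (ho : ∀ i, o i ≠ i) (p q : Fin m ⊕ Fin m) (hpq : p ≠ q) (h1 : p ≠ bar q) (t u : K) :
    XC A o p q t * XC A o q (bar p) u * (XC A o p q t)⁻¹ * (XC A o q (bar p) u)⁻¹ =
      XC A o p (bar p) (2 * t * u) := by
  obtain ⟨i, hi⟩ : ∃ i, i = idx p := ⟨_, rfl⟩
  obtain ⟨j, hj⟩ : ∃ j, j = idx q := ⟨_, rfl⟩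
  have hij : i ≠ j := by
    intro h
    have h2 : idx p = idx q := by rw [← hi, ← hj, h]
    rcases (idx_eq_iff p q).1 h2 with h3 | h3
    · exact hpq h3.symm
    · exact h1 (by rw [h3, bar_bar])
  obtain ⟨p0, rfl⟩ := em_surj (i := i) (j := j) p (Or.inl hi.symm)
  obtain ⟨q0, rfl⟩ := em_surj (i := i) (j := j) q (Or.inr hj.symm)
  have hpq0 : p0 ≠ q0 := fun h => hpq (by rw [h])
  have h10 : p0 ≠ bar q0 := fun h => h1 (by rw [h, em_bar])
  have h := (R2S_spRel_two hA o ho hij).r5 p0 q0 hpq0 h10 t u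
  simp only [em_bar] at h
  exact h

end Cfsg.Agent.Helper15.PSp
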