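import Mathlib
import Cfsg.Agent.Helper15.PSp.Defs
import Cfsg.Agent.Helper15.PSp.P_EM
import Cfsg.Agent.Helper15.PSp.P_R2S

/-!
# S2292 CORE piece (R2A) -- see `tools/helper15_psp/README.md` and board WANTED of helper15.
-/

set_option autoImplicit false

namespace Cfsg.Agent.Helper15.PSp

open Matrix Cfsg.Agent.Helper96.StC Cfsg.Agent.Helper96.StN Cfsg.Agent.Helper29.StCM
  Cfsg.Agent.Helper96.StemSLTwo Cfsg.Agent.Helper96.StPres Cfsg.Agent.Helper9.Sp4P

universe u v

variable {K : Type u} [Field K] {D : Type v} [Group D] {m : ℕ}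

/-! ### the piece -/

/-- (R2A) -/
theorem XC_add {A : Fin m → Fin m → (Sp4 K →* D)} (hA : Fam A) (o : Fin m → Fin m)
    (ho : ∀ i, o i ≠ i) (p q : Fin m ⊕ Fin m) (hpq : p ≠ q) (t u : K) :
    XC A o p q (t + u) = XC A o p q t * XC A o p q u := by
  obtain ⟨i, hi⟩ : ∃ i, idx p = i := ⟨_, rfl⟩
  by_cases hq : q = bar p
  · -- long root: use the auxiliary index `o i`
    have hij : i ≠ o i := fun h => ho i h.symm
    obtain ⟨p0, rfl⟩ := em_surj (i := i) (j := o i) p (Or.inl hi)
    subst hq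
    have h0 : p0 ≠ bar p0 := fun h => bar_ne p0 h.symm
    have := (R2S_spRel_two hA o ho hij).add p0 (bar p0) h0 t u
    simp only [em_bar] at this
    exact this
  · obtain ⟨j, hj⟩ : ∃ j, idx q = j := ⟨_, rfl⟩
    have hij : i ≠ j := by
      intro h
      have h1 : idx p = idx q := by rw [hi, hj, h]
      rcases (idx_eq_iff p q).mp h1 with h2 | h2
      · exact hpq h2.symm
      · exact hq h2
    obtain ⟨p0, rfl⟩ := em_surj (i := i) (j := j) p (Or.inl hi)
    obtain ⟨q0, rfl⟩ := em_surj (i := i) (j := j) q (Or.inr hj)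
    have h0 : p0 ≠ q0 := fun h => hpq (by rw [h])
    exact (R2S_spRel_two hA o ho hij).add p0 q0 h0 t u

end Cfsg.Agent.Helper15.PSp
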