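import Mathlib
import Cfsg.Agent.Helper15.PSp.Defs
import Cfsg.Agent.Helper15.PSp.P_KEY
import Cfsg.Agent.Helper15.PSp.P_R2S
import Cfsg.Agent.Helper15.PSp.P_R2A
import Cfsg.Agent.Helper15.PSp.P_R25
import Cfsg.Agent.Helper15.PSp.P_R26
import Cfsg.Agent.Helper15.PSp.P_MUL
import Cfsg.Agent.Helper15.PSp.P_COMM

/-!
# S2292 CORE: a family `A i j : Sp₄(K) →* D` satisfying `Fam` gives the Steinberg relations of type `C_m`

Pieces (farm of helper15): NS I0U helper93, I0W FLB helper34, EM KEY helper37, MAP COMF C2 helper87,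
BASE MULF helper48, FLA C4 helper42, FL C3A helper70, MUL C3B helper63, R2S R2A helper49,
R25 R26 helper75, C3 COMM helper53.
-/

set_option autoImplicit false

namespace Cfsg.Agent.Helper15.PSp

open Matrix Cfsg.Agent.Helper96.StC Cfsg.Agent.Helper96.StN Cfsg.Agent.Helper29.StCM
  Cfsg.Agent.Helper96.StemSLTwo Cfsg.Agent.Helper96.StPres Cfsg.Agent.Helper9.Sp4P

universe u v

variable {K : Type u} [Field K] {D : Type v} [Group D] {m : ℕ}

/-- **CORE of S2292**: the Steinberg relations of type `C_m` for the family `XC A o` -/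
theorem spRel_XC (hm : 3 ≤ m) {A : Fin m → Fin m → (Sp4 K →* D)} (hA : Fam A) (o : Fin m → Fin m)
    (ho : ∀ i, o i ≠ i) : SpRel (XC A o) :=
  ⟨XC_sym hA o ho, XC_add hA o ho, XC_comm hm hA o ho, XC_mul hm hA o ho, XC_r5 hA o ho,
    XC_r6 hA o ho⟩

end Cfsg.Agent.Helper15.PSp
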