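import Mathlib
import Cfsg.Agent.Helper9.Sp4P.P_LIFT

/-!
# Gluing two finitely presented groups along a list of extra relators (generic bookkeeping)

`G1 = ⟨Fin k1 | rels1⟩`, `G2 = ⟨Fin k2 | rels2⟩`, `cw` a list of words in `Fin (k1 + k2)`.
`PG` is the group presented by `rels1 ∪ rels2 ∪ cw`; `hom1 : G1 →* PG`, `hom2 : G2 →* PG`; for
homomorphisms `f1 : G1 →* T`, `f2 : G2 →* T` killing `cw` there is `phiG : PG →* T`.
(The pattern of helper1's `SLNP.Main`, made generic.)
-/

set_option autoImplicit false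

namespace Cfsg.Agent.Helper15.PresGlue

open Cfsg.Agent.Helper9.Sp4P

universe u1 u2 u3

variable {G1 : Type u1} {G2 : Type u2} {T : Type u3} [Group G1] [Group G2] [Group T] {k1 k2 : ℕ}
  (rels1 : Finset (FreeGroup (Fin k1)))
  (e1 : PresentedGroup (↑rels1 : Set (FreeGroup (Fin k1))) ≃* G1)
  (rels2 : Finset (FreeGroup (Fin k2)))
  (e2 : PresentedGroup (↑rels2 : Set (FreeGroup (Fin k2))) ≃* G2)
  (cw : List (FreeGroup (Fin (k1 + k2))))

/-- the generators of `G1` among all generators -/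
def j1 (k1 k2 : ℕ) : Fin k1 → Fin (k1 + k2) := Fin.castAdd k2

/-- the generators of `G2` among all generators -/
def j2 (k1 k2 : ℕ) : Fin k2 → Fin (k1 + k2) := Fin.natAdd k1

/-- the relators: those of `G1`, those of `G2` and the list `cw` -/
noncomputable def relsG : Finset (FreeGroup (Fin (k1 + k2))) :=
  rels1.image (FreeGroup.map (j1 k1 k2)) ∪ rels2.image (FreeGroup.map (j2 k1 k2)) ∪ cw.toFinset

theorem card_relsG : (relsG rels1 rels2 cw).card ≤ rels1.card + rels2.card + cw.length := by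
  have h1 := Finset.card_image_le (s := rels1) (f := FreeGroup.map (j1 k1 k2))
  have h2 := Finset.card_image_le (s := rels2) (f := FreeGroup.map (j2 k1 k2))
  have h3 : cw.toFinset.card ≤ cw.length := List.toFinset_card_le _
  have h4 := Finset.card_union_le (rels1.image (FreeGroup.map (j1 k1 k2)))
    (rels2.image (FreeGroup.map (j2 k1 k2)))
  have h5 := Finset.card_union_le (rels1.image (FreeGroup.map (j1 k1 k2)) ∪
    rels2.image (FreeGroup.map (j2 k1 k2))) cw.toFinset
  unfold relsG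
  omega

theorem map_j1_mem (r : FreeGroup (Fin k1)) (hr : r ∈ (↑rels1 : Set (FreeGroup (Fin k1)))) :
    FreeGroup.map (j1 k1 k2) r ∈ (↑(relsG rels1 rels2 cw) : Set (FreeGroup (Fin (k1 + k2)))) := by
  rw [Finset.mem_coe] at hr ⊢
  unfold relsG
  exact Finset.mem_union_left _ (Finset.mem_union_left _ (Finset.mem_image_of_mem _ hr))

theorem map_j2_mem (r : FreeGroup (Fin k2)) (hr : r ∈ (↑rels2 : Set (FreeGroup (Fin k2)))) :
    FreeGroup.map (j2 k1 k2) r ∈ (↑(relsG rels1 rels2 cw) : Set (FreeGroup (Fin (k1 + k2)))) := by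
  rw [Finset.mem_coe] at hr ⊢
  unfold relsG
  exact Finset.mem_union_left _ (Finset.mem_union_right _ (Finset.mem_image_of_mem _ hr))

theorem cw_mem (r : FreeGroup (Fin (k1 + k2))) (hr : r ∈ cw) :
    r ∈ (↑(relsG rels1 rels2 cw) : Set (FreeGroup (Fin (k1 + k2)))) := by
  rw [Finset.mem_coe]
  unfold relsG
  exact Finset.mem_union_right _ (List.mem_toFinset.2 hr)

/-- the presented group -/
abbrev PG := PresentedGroup (↑(relsG rels1 rels2 cw) : Set (FreeGroup (Fin (k1 + k2))))

theorem mk_cw (r : FreeGroup (Fin (k1 + k2))) (hr : r ∈ cw) :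
    (PresentedGroup.mk (↑(relsG rels1 rels2 cw) : Set (FreeGroup (Fin (k1 + k2)))) r) = 1 :=
  PresentedGroup.one_of_mem (cw_mem rels1 rels2 cw r hr)

/-- the homomorphism of presented groups induced by the inclusion of the first generators -/
noncomputable def lam1 :
    PresentedGroup (↑rels1 : Set (FreeGroup (Fin k1))) →* PG rels1 rels2 cw :=
  Classical.choose (exists_presented_map (j1 k1 k2) _ _ (map_j1_mem rels1 rels2 cw))

theorem lam1_mk (w : FreeGroup (Fin k1)) :
    lam1 rels1 rels2 cw (PresentedGroup.mk _ w) =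
      PresentedGroup.mk _ (FreeGroup.map (j1 k1 k2) w) :=
  Classical.choose_spec (exists_presented_map (j1 k1 k2) _ _ (map_j1_mem rels1 rels2 cw)) w

/-- the homomorphism of presented groups induced by the inclusion of the last generators -/
noncomputable def lam2 :
    PresentedGroup (↑rels2 : Set (FreeGroup (Fin k2))) →* PG rels1 rels2 cw :=
  Classical.choose (exists_presented_map (j2 k1 k2) _ _ (map_j2_mem rels1 rels2 cw))

theorem lam2_mk (w : FreeGroup (Fin k2)) :
    lam2 rels1 rels2 cw (PresentedGroup.mk _ w) =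
      PresentedGroup.mk _ (FreeGroup.map (j2 k1 k2) w) :=
  Classical.choose_spec (exists_presented_map (j2 k1 k2) _ _ (map_j2_mem rels1 rels2 cw)) w

/-- the homomorphism from `G1` -/
noncomputable def hom1 : G1 →* PG rels1 rels2 cw :=
  (lam1 rels1 rels2 cw).comp e1.symm.toMonoidHom

/-- the homomorphism from `G2` -/
noncomputable def hom2 : G2 →* PG rels1 rels2 cw :=
  (lam2 rels1 rels2 cw).comp e2.symm.toMonoidHom

theorem hom1_e (w : FreeGroup (Fin k1)) :
    hom1 rels1 e1 rels2 cw (e1 (PresentedGroup.mk _ w)) =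
      PresentedGroup.mk _ (FreeGroup.map (j1 k1 k2) w) := by
  unfold hom1
  rw [MonoidHom.comp_apply]
  have e : e1.symm.toMonoidHom (e1 (PresentedGroup.mk _ w)) = PresentedGroup.mk _ w := by
    change e1.symm (e1 (PresentedGroup.mk _ w)) = _
    rw [MulEquiv.symm_apply_apply]
  rw [e, lam1_mk]

theorem hom2_e (w : FreeGroup (Fin k2)) :
    hom2 rels1 rels2 e2 cw (e2 (PresentedGroup.mk _ w)) =
      PresentedGroup.mk _ (FreeGroup.map (j2 k1 k2) w) := by
  unfold hom2
  rw [MonoidHom.comp_apply]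
  have e : e2.symm.toMonoidHom (e2 (PresentedGroup.mk _ w)) = PresentedGroup.mk _ w := by
    change e2.symm (e2 (PresentedGroup.mk _ w)) = _
    rw [MulEquiv.symm_apply_apply]
  rw [e, lam2_mk]

/-- a word for an element of `G1` -/
noncomputable def wd1 (g : G1) : FreeGroup (Fin k1) :=
  Classical.choose (QuotientGroup.mk_surjective (e1.symm g))

theorem e1_wd1 (g : G1) : e1 (PresentedGroup.mk _ (wd1 rels1 e1 g)) = g := by
  have h := Classical.choose_spec (QuotientGroup.mk_surjective (e1.symm g))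
  exact (MulEquiv.symm_apply_eq e1).1 h.symm |>.symm

/-- a word for an element of `G2` -/
noncomputable def wd2 (g : G2) : FreeGroup (Fin k2) :=
  Classical.choose (QuotientGroup.mk_surjective (e2.symm g))

theorem e2_wd2 (g : G2) : e2 (PresentedGroup.mk _ (wd2 rels2 e2 g)) = g := by
  have h := Classical.choose_spec (QuotientGroup.mk_surjective (e2.symm g))
  exact (MulEquiv.symm_apply_eq e2).1 h.symm |>.symm

theorem hom1_wd1 (g : G1) :
    hom1 rels1 e1 rels2 cw g =
      PresentedGroup.mk _ (FreeGroup.map (j1 k1 k2) (wd1 rels1 e1 g)) := by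
  have h := hom1_e rels1 e1 rels2 cw (wd1 rels1 e1 g)
  rw [e1_wd1] at h
  exact h

theorem hom2_wd2 (g : G2) :
    hom2 rels1 rels2 e2 cw g =
      PresentedGroup.mk _ (FreeGroup.map (j2 k1 k2) (wd2 rels2 e2 g)) := by
  have h := hom2_e rels1 rels2 e2 cw (wd2 rels2 e2 g)
  rw [e2_wd2] at h
  exact h

variable (f1 : G1 →* T) (f2 : G2 →* T)

/-- the images of the generators in the target -/
noncomputable def gens : Fin (k1 + k2) → T :=
  Fin.addCases (fun i => f1 (e1 (PresentedGroup.of i))) (fun i => f2 (e2 (PresentedGroup.of i)))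

theorem gens_j1 (i : Fin k1) :
    gens rels1 e1 rels2 e2 f1 f2 (j1 k1 k2 i) = f1 (e1 (PresentedGroup.of i)) := by
  unfold gens j1
  rw [Fin.addCases_left]

theorem gens_j2 (i : Fin k2) :
    gens rels1 e1 rels2 e2 f1 f2 (j2 k1 k2 i) = f2 (e2 (PresentedGroup.of i)) := by
  unfold gens j2
  rw [Fin.addCases_right]

theorem lift_map_j1 (w : FreeGroup (Fin k1)) :
    FreeGroup.lift (gens rels1 e1 rels2 e2 f1 f2) (FreeGroup.map (j1 k1 k2) w) =
      f1 (e1 (PresentedGroup.mk _ w)) := by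
  have h : (FreeGroup.lift (gens rels1 e1 rels2 e2 f1 f2)).comp (FreeGroup.map (j1 k1 k2)) =
      (f1.comp e1.toMonoidHom).comp (PresentedGroup.mk _) := by
    apply FreeGroup.ext_hom
    intro i
    simp only [MonoidHom.comp_apply, FreeGroup.map.of, FreeGroup.lift_apply_of, gens_j1]
    rfl
  exact DFunLike.congr_fun h w

theorem lift_map_j2 (w : FreeGroup (Fin k2)) :
    FreeGroup.lift (gens rels1 e1 rels2 e2 f1 f2) (FreeGroup.map (j2 k1 k2) w) =
      f2 (e2 (PresentedGroup.mk _ w)) := by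
  have h : (FreeGroup.lift (gens rels1 e1 rels2 e2 f1 f2)).comp (FreeGroup.map (j2 k1 k2)) =
      (f2.comp e2.toMonoidHom).comp (PresentedGroup.mk _) := by
    apply FreeGroup.ext_hom
    intro i
    simp only [MonoidHom.comp_apply, FreeGroup.map.of, FreeGroup.lift_apply_of, gens_j2]
    rfl
  exact DFunLike.congr_fun h w

theorem lift_wd1 (g : G1) :
    FreeGroup.lift (gens rels1 e1 rels2 e2 f1 f2) (FreeGroup.map (j1 k1 k2) (wd1 rels1 e1 g)) =
      f1 g := by
  rw [lift_map_j1, e1_wd1]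

theorem lift_wd2 (g : G2) :
    FreeGroup.lift (gens rels1 e1 rels2 e2 f1 f2) (FreeGroup.map (j2 k1 k2) (wd2 rels2 e2 g)) =
      f2 g := by
  rw [lift_map_j2, e2_wd2]

theorem gens_rels (hmodel : ∀ r ∈ cw, FreeGroup.lift (gens rels1 e1 rels2 e2 f1 f2) r = 1) :
    ∀ r ∈ (↑(relsG rels1 rels2 cw) : Set (FreeGroup (Fin (k1 + k2)))),
      FreeGroup.lift (gens rels1 e1 rels2 e2 f1 f2) r = 1 := by
  intro r hr
  rw [Finset.mem_coe, relsG, Finset.mem_union, Finset.mem_union, Finset.mem_image,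
    Finset.mem_image, List.mem_toFinset] at hr
  rcases hr with (⟨r', hr', rfl⟩ | ⟨r', hr', rfl⟩) | hr
  · rw [lift_map_j1, PresentedGroup.one_of_mem (Finset.mem_coe.2 hr'), map_one, map_one]
  · rw [lift_map_j2, PresentedGroup.one_of_mem (Finset.mem_coe.2 hr'), map_one, map_one]
  · exact hmodel r hr

/-- the homomorphism to the target -/
noncomputable def phiG (hmodel : ∀ r ∈ cw, FreeGroup.lift (gens rels1 e1 rels2 e2 f1 f2) r = 1) :
    PG rels1 rels2 cw →* T :=
  PresentedGroup.toGroup (gens_rels rels1 e1 rels2 e2 cw f1 f2 hmodel)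

theorem phiG_mk (hmodel : ∀ r ∈ cw, FreeGroup.lift (gens rels1 e1 rels2 e2 f1 f2) r = 1)
    (w : FreeGroup (Fin (k1 + k2))) :
    phiG rels1 e1 rels2 e2 cw f1 f2 hmodel (PresentedGroup.mk _ w) =
      FreeGroup.lift (gens rels1 e1 rels2 e2 f1 f2) w := by
  have h : (phiG rels1 e1 rels2 e2 cw f1 f2 hmodel).comp (PresentedGroup.mk _) =
      FreeGroup.lift (gens rels1 e1 rels2 e2 f1 f2) := by
    apply FreeGroup.ext_hom
    intro i
    rw [MonoidHom.comp_apply, FreeGroup.lift_apply_of]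
    exact PresentedGroup.toGroup.of _
  exact DFunLike.congr_fun h w

theorem phiG_hom1 (hmodel : ∀ r ∈ cw, FreeGroup.lift (gens rels1 e1 rels2 e2 f1 f2) r = 1) :
    (phiG rels1 e1 rels2 e2 cw f1 f2 hmodel).comp (hom1 rels1 e1 rels2 cw) = f1 := by
  apply MonoidHom.ext
  intro g
  rw [MonoidHom.comp_apply, hom1_wd1, phiG_mk, lift_wd1]

theorem phiG_hom2 (hmodel : ∀ r ∈ cw, FreeGroup.lift (gens rels1 e1 rels2 e2 f1 f2) r = 1) :
    (phiG rels1 e1 rels2 e2 cw f1 f2 hmodel).comp (hom2 rels1 rels2 e2 cw) = f2 := by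
  apply MonoidHom.ext
  intro g
  rw [MonoidHom.comp_apply, hom2_wd2, phiG_mk, lift_wd2]

theorem htop : (hom1 rels1 e1 rels2 cw).range ⊔ (hom2 rels1 rels2 e2 cw).range = ⊤ := by
  rw [eq_top_iff, ← PresentedGroup.closure_range_of, Subgroup.closure_le]
  rintro _ ⟨i, rfl⟩
  refine Fin.addCases (fun i => ?_) (fun i => ?_) i
  · apply Subgroup.mem_sup_left
    refine ⟨e1 (PresentedGroup.of i), ?_⟩
    change hom1 rels1 e1 rels2 cw (e1 (PresentedGroup.mk _ (FreeGroup.of i))) = _
    rw [hom1_e, FreeGroup.map.of]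
    rfl
  · apply Subgroup.mem_sup_right
    refine ⟨e2 (PresentedGroup.of i), ?_⟩
    change hom2 rels1 rels2 e2 cw (e2 (PresentedGroup.mk _ (FreeGroup.of i))) = _
    rw [hom2_e, FreeGroup.map.of]
    rfl

end Cfsg.Agent.Helper15.PresGlue
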