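import Mathlib
import Cfsg.Agent.Helper15.PSp.Defs
import Cfsg.Agent.Helper15.PSp.P_MAP
import Cfsg.Agent.Helper15.PSp.P_KEY

/-!
# S2292 CORE: the relations inside two indices (`spRel_two`)
-/

set_option autoImplicit false

namespace Cfsg.Agent.Helper15.PSp

open Matrix Cfsg.Agent.Helper96.StC Cfsg.Agent.Helper96.StN Cfsg.Agent.Helper29.StCM
  Cfsg.Agent.Helper96.StemSLTwo Cfsg.Agent.Helper96.StPres Cfsg.Agent.Helper9.Sp4P

universe u v

variable {K : Type u} [Field K] {D : Type v} [Group D] {m : ℕ}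

/-- the relations inside two indices -/
theorem spRel_two {A : Fin m → Fin m → (Sp4 K →* D)} (hA : Fam A) (o : Fin m → Fin m)
    (ho : ∀ i, o i ≠ i) {i j : Fin m} (hij : i ≠ j) :
    SpRel (fun (p0 q0 : Fin 2 ⊕ Fin 2) (t : K) => XC A o (em i j p0) (em i j q0) t) := by
  have h := spRel_map (spT_spRel (K := K) (m := 2)) (A i j)
  refine ⟨?_, ?_, ?_, ?_, ?_, ?_⟩
  · intro p q hpq hq t
    have hb : bar q ≠ bar p := fun e => hpq (bar_injective e).symm
    rw [XC_em hA o ho hij p q hpq, XC_em hA o ho hij _ _ hb]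
    exact h.sym p q hpq hq t
  · intro p q hpq t u
    rw [XC_em hA o ho hij p q hpq, XC_em hA o ho hij p q hpq, XC_em hA o ho hij p q hpq]
    exact h.add p q hpq t u
  · intro p q r s hpq hrs h1 h2 h3 h4 t u
    rw [XC_em hA o ho hij p q hpq, XC_em hA o ho hij r s hrs]
    exact h.comm p q r s hpq hrs h1 h2 h3 h4 t u
  · intro p q s hpq hqs hps h1 h2 h3 t u
    rw [XC_em hA o ho hij p q hpq, XC_em hA o ho hij q s hqs, XC_em hA o ho hij p s hps]
    exact h.mul p q s hpq hqs hps h1 h2 h3 t u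
  · intro p q hpq h1 t u
    have hqb : q ≠ bar p := fun e => h1 (by rw [e, bar_bar])
    rw [XC_em hA o ho hij p q hpq, XC_em hA o ho hij q (bar p) hqb,
      XC_em hA o ho hij p (bar p) (bar_ne p).symm]
    exact h.r5 p q hpq h1 t u
  · intro p q hpq h1 t u
    have hbq : bar p ≠ q := fun e => h1 (by rw [← e, bar_bar])
    rw [XC_em hA o ho hij p (bar p) (bar_ne p).symm, XC_em hA o ho hij (bar p) q hbq,
      XC_em hA o ho hij p q hpq, XC_em hA o ho hij (bar q) q (bar_ne q)]
    exact h.r6 p q hpq h1 t u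

end Cfsg.Agent.Helper15.PSp
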